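import Groth.Agent.Lib.EtQc13.Affine
import Groth.Agent.S18415
import Groth.Agent.Lib.EtDer.ConstSec
import Groth.Agent.Lib.LocConst.ConstGerm
import Groth.Agent.Lib.EtSite.PushUI

/-!
# The Artin–Schreier sequence on a scheme of characteristic `p`
-/

set_option autoImplicit false
set_option backward.isDefEq.respectTransparency false
set_option backward.isDefEq.respectTransparency.types false

universe u

open CategoryTheory CategoryTheory.Limits CategoryTheory.Abelian AlgebraicGeometry Opposite
open GrothLib.EtSite GrothLib.EtColim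

noncomputable section

namespace GrothLib.EtQc13

/-- In a local ring with `p = 0`, a fixed point of `x ↦ x ^ p` is an integer. -/
theorem exists_natCast_eq_of_pow_eq {L : Type*} [CommRing L] [IsLocalRing L] {p : ℕ} (hp : p.Prime)
    (h0 : (p : L) = 0) {b : L} (hb : b ^ p = b) : ∃ n : ℕ, (n : L) = b := by
  haveI := Fact.mk hp
  haveI : CharP L p := (CharP.charP_iff_prime_eq_zero hp).2 h0
  let κ := IsLocalRing.ResidueField L
  haveI : CharP κ p := (CharP.charP_iff_prime_eq_zero hp).2 (by
    rw [← map_natCast (IsLocalRing.residue L), h0, map_zero])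
  have hc : (IsLocalRing.residue L b) ^ p = IsLocalRing.residue L b := by rw [← map_pow, hb]
  obtain ⟨n, hn⟩ : ∃ n : ZMod p, ZMod.castHom (dvd_refl p) κ n = IsLocalRing.residue L b := by
    classical
    let f : Polynomial κ := Polynomial.X ^ p - Polynomial.X
    have hf : f ≠ 0 := FiniteField.X_pow_card_sub_X_ne_zero κ hp.one_lt
    have hsub : Finset.univ.image (ZMod.castHom (dvd_refl p) κ) ⊆ f.roots.toFinset := by
      intro x hx
      obtain ⟨i, -, rfl⟩ := Finset.mem_image.1 hx
      rw [Multiset.mem_toFinset, Polynomial.mem_roots hf]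
      simp only [f, Polynomial.IsRoot, Polynomial.eval_sub, Polynomial.eval_pow, Polynomial.eval_X,
        ← map_pow, ZMod.pow_card, sub_self]
    have heq := Finset.eq_of_subset_of_card_le hsub (by
      rw [Finset.card_image_of_injective _ (ZMod.castHom (dvd_refl p) κ).injective, Finset.card_univ, ZMod.card]
      refine (Multiset.toFinset_card_le _).trans ((Polynomial.card_roots' f).trans ?_)
      rw [FiniteField.X_pow_card_sub_X_natDegree_eq κ hp.one_lt])
    have hmem : IsLocalRing.residue L b ∈ f.roots.toFinset := by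
      rw [Multiset.mem_toFinset, Polynomial.mem_roots hf]
      simp [f, hc]
    rw [← heq] at hmem
    obtain ⟨i, -, hi⟩ := Finset.mem_image.1 hmem
    exact ⟨i, hi⟩
  refine ⟨n.val, ?_⟩
  have hγ : b - (n.val : L) ∈ IsLocalRing.maximalIdeal L := by
    rw [← IsLocalRing.residue_eq_zero_iff, map_sub, map_natCast, ← hn, ZMod.castHom_apply, ZMod.natCast_val,
      sub_self]
  have hn' : ((n.val : L)) ^ p = (n.val : L) := by
    rw [← frobenius_def, map_natCast]
  have hγp : (b - (n.val : L)) ^ p = b - (n.val : L) := by rw [sub_pow_char, hb, hn']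
  set γ := b - (n.val : L)
  have hu : IsUnit (γ ^ (p - 1) - 1) := by
    have hm : γ ^ (p - 1) ∈ IsLocalRing.maximalIdeal L :=
      Ideal.pow_mem_of_mem _ hγ _ (Nat.sub_pos_of_lt hp.one_lt)
    have h1 : IsUnit (1 - γ ^ (p - 1)) :=
      IsLocalRing.isUnit_one_sub_self_of_mem_nonunits _ (IsLocalRing.mem_maximalIdeal _ |>.1 hm)
    rw [← neg_sub]; exact h1.neg
  have h0γ : γ * (γ ^ (p - 1) - 1) = 0 := by
    rw [mul_sub, mul_one, ← pow_succ', Nat.sub_add_cancel hp.one_le, hγp, sub_self]
  exact (sub_eq_zero.1 ((hu.mul_left_eq_zero).1 h0γ)).symm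

/-- Monomorphisms of sheaves are injective on sections. -/
theorem injective_app_of_mono {X : Scheme.{u}} {A B : EtCoh.Ab X} (f : A ⟶ B) [Mono f] (V : X.Etale) :
    Function.Injective (f.hom.app (op V)) := by
  haveI h : Mono f.hom := inferInstanceAs (Mono ((sheafToPresheaf _ _).map f))
  exact (AddCommGrpCat.mono_iff_injective _).1 ((NatTrans.mono_iff_mono_app f.hom).1 h (op V))

/-- Constant coefficients are the kernel of Artin–Schreier. -/
theorem exists_iso_const (X : Scheme.{u}) (p : ℕ) [Fact p.Prime] (h0 : (p : Γ(X, ⊤)) = 0) :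
    Nonempty (EtCoh.const X (ZMod p) ≅
      kernel (W4c5etcohweilstudent.artinSchreierEndo X p (Fact.out : p.Prime) h0)) := by
  let hp : p.Prime := Fact.out
  let a := W4c5etcohweilstudent.artinSchreierEndo X p hp h0
  let one₀ : EtCoh.sect (EtCoh.Ga X) (EtCoh.top X) := (ULift.up 1 : ULift.{u + 1} Γ(X, ⊤))
  have hone : p • one₀ = 0 := ULift.ext _ _ (by
    change p • (1 : Γ(X, ⊤)) = 0
    rw [nsmul_one]
    exact h0)
  let φ : ZMod p →+ EtCoh.sect (EtCoh.Ga X) (EtCoh.top X) :=
    ZMod.lift p ⟨zmultiplesHom _ one₀, by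
      change (p : ℤ) • one₀ = 0
      rw [natCast_zsmul]; exact hone⟩
  have hφ : ∀ n : ZMod p, φ n = n.val • one₀ := fun n => by
    conv_lhs => rw [← ZMod.natCast_zmod_val n, ← Int.cast_natCast]
    exact (ZMod.lift_coe p _ _).trans (natCast_zsmul one₀ _)
  let g₀ : AddCommGrpCat.of (ULift.{u + 1} (ZMod p)) ⟶ (EtCore.gsec X).obj (EtCoh.Ga X) :=
    AddCommGrpCat.ofHom (φ.comp AddEquiv.ulift.toAddMonoidHom)
  let ι : EtCoh.const X (ZMod p) ⟶ EtCoh.Ga X := ((EtCore.constAdj X).homEquiv _ _).symm g₀
  have ha1 : a.hom.app (op (EtCoh.top X)) one₀ = 0 := ULift.ext _ _ (by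
    change (1 : Γ(X, ⊤)) ^ p - 1 = 0
    rw [one_pow, sub_self])
  have hιa : ι ≫ a = 0 := by
    refine ((EtCore.constAdj X).homEquiv _ _).injective ?_
    rw [Adjunction.homEquiv_naturality_right, Equiv.apply_symm_apply]
    rw [Adjunction.homEquiv_unit, CategoryTheory.Functor.map_zero, comp_zero]
    refine AddCommGrpCat.hom_ext (AddMonoidHom.ext fun c => ?_)
    change a.hom.app (op (EtCoh.top X)) (φ c.down) = 0
    rw [hφ, map_nsmul, ha1, smul_zero]
  let ι' : EtCoh.const X (ZMod p) ⟶ kernel a := kernel.lift a ι hιa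
  let A₀ := AddCommGrpCat.of (ULift.{u + 1} (ZMod p))
  have hι : ∀ (c : ULift.{u + 1} (ZMod p)),
      ι.hom.app (op (EtCoh.top X)) (GrothLib.EtDer.cst A₀ _ c) = c.down.val • one₀ := fun c => by
    rw [← hφ, ← GrothLib.EtDer.cst_top]
    have e0 : g₀ = (EtCore.constAdj X).homEquiv _ _ ι := (Equiv.apply_symm_apply _ _).symm
    change _ = g₀ c
    rw [e0, Adjunction.homEquiv_unit]
    rfl
  haveI : IsIso ι' := isIso_of_stalksAC ι' fun Ω _ _ ξ => by
    refine ⟨?_, fun y => ?_⟩
    · rw [injective_iff_map_eq_zero]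
      intro y hy
      obtain ⟨c, rfl⟩ := (GrothLib.LocConst.bijective_germ_const ξ _).2 y
      have hy' := congrArg ((EtCoh.stalk ξ).map (kernel.ι a)) hy
      rw [map_zero, ← ConcreteCategory.comp_apply, ← CategoryTheory.Functor.map_comp, kernel.lift_ι] at hy'
      have key : (EtCoh.stalk ξ).map ι (((EtCore.constAdj X).unit.app A₀ ≫
          germ ξ _ (GrothLib.LocConst.topFib ξ)) c) =
          (ULift.down c).val • germ ξ (EtCoh.Ga X) (GrothLib.LocConst.topFib ξ) one₀ := by
        rw [ConcreteCategory.comp_apply, GrothLib.EtDer.cst_top]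
        refine (stalk_map_germ ξ ι _ _).trans ?_
        rw [hι, map_nsmul]
      rw [key] at hy'
      have hne : germ ξ (EtCoh.Ga X) (GrothLib.LocConst.topFib ξ) one₀ ≠ 0 := fun h => by
        obtain ⟨V, g, v, -, hg⟩ := eq_zero_nhd ξ (EtCoh.Ga X) _ one₀ h
        have h1 : g.left.appTop.hom (1 : Γ(X, ⊤)) = 0 := congrArg ULift.down hg
        have h2 : (1 : Γ(V.left, ⊤)) = 0 := (map_one g.left.appTop.hom).symm.trans h1
        exact one_ne_zero ((map_one _).symm.trans
          ((congrArg (V.left.presheaf.germ ⊤ v trivial).hom h2).trans (map_zero _)))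
      have hord : addOrderOf (germ ξ (EtCoh.Ga X) (GrothLib.LocConst.topFib ξ) one₀) = p :=
        addOrderOf_eq_prime (by rw [← map_nsmul, hone, map_zero]) hne
      have := addOrderOf_dvd_of_nsmul_eq_zero hy'
      rw [hord] at this
      have hc : (ULift.down c).val = 0 := Nat.eq_zero_of_dvd_of_lt this (ZMod.val_lt _)
      rw [show c = 0 from ULift.ext _ _ ((ZMod.val_eq_zero _).1 hc)]
      exact map_zero _
    · obtain ⟨V, t, s, rfl⟩ := exists_germ ξ _ y
      let pt : Spec (CommRingCat.of Ω) := default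
      let v : V.left := t.left.base pt
      let b : Γ(V.left, ⊤) := ULift.down (show ULift.{u + 1} Γ(V.left, ⊤) from
        (kernel.ι a).hom.app (op V) s)
      have hb : b ^ p - b = 0 := by
        have e : a.hom.app (op V) ((kernel.ι a).hom.app (op V) s) = 0 :=
          congr($(congrArg (fun f : kernel a ⟶ EtCoh.Ga X => f.hom.app (op V)) (kernel.condition a)) s)
        exact congrArg ULift.down e
      have h0V : (p : Γ(V.left, ⊤)) = 0 := by
        have := congrArg V.hom.appTop.hom h0
        rwa [map_natCast, map_zero] at this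
      let gv := (V.left.presheaf.germ ⊤ v trivial).hom
      obtain ⟨n, hn⟩ := exists_natCast_eq_of_pow_eq (L := V.left.presheaf.stalk v) hp
        (by rw [← map_natCast gv, h0V, map_zero]) (b := gv b)
        (by rw [← map_pow, sub_eq_zero.1 hb])
      obtain ⟨W₀, hvW, i₁, i₂, hW⟩ := V.left.presheaf.germ_eq (U := ⊤) (V := ⊤) v trivial trivial b (n : Γ(V.left, ⊤))
        (by rw [map_natCast]; exact hn.symm)
      let W : V.left.Opens := W₀
      haveI : Etale V.hom := V.prop
      let V' : X.Etale := MorphismProperty.Over.mk _ (W.ι ≫ V.hom) (inferInstanceAs (Etale (W.ι ≫ V.hom)))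
      let m : V' ⟶ V := MorphismProperty.Over.homMk W.ι rfl trivial
      have hrange : Set.range t.left ⊆ Set.range W.ι := by
        rintro _ ⟨z, rfl⟩
        rw [Scheme.Opens.range_ι]
        change t.left z ∈ W
        rw [show z = pt from Subsingleton.elim (α := PrimeSpectrum Ω) _ _]
        exact hvW
      let t' : (Scheme.pointSmallEtale ξ).fiber.obj V' :=
        Over.homMk (IsOpenImmersion.lift W.ι t.left hrange) (by
          show _ ≫ W.ι ≫ V.hom = ξ
          rw [IsOpenImmersion.lift_fac_assoc]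
          exact Over.w t)
      have hm : (Scheme.pointSmallEtale ξ).fiber.map m t' = t :=
        Over.OverMorphism.ext (IsOpenImmersion.lift_fac _ _ _)
      rw [← hm, ← germ_map]
      refine ⟨germ ξ _ t' (GrothLib.EtDer.cst A₀ V' (ULift.up (n : ZMod p))), ?_⟩
      rw [stalk_map_germ]
      refine congrArg _ (injective_app_of_mono (kernel.ι a) _ ?_)
      have e1 : (kernel.ι a).hom.app (op V') (ι'.hom.app (op V') (GrothLib.EtDer.cst A₀ V' (ULift.up (n : ZMod p)))) =
          ι.hom.app (op V') (GrothLib.EtDer.cst A₀ V' (ULift.up (n : ZMod p))) := by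
        conv_rhs => rw [← kernel.lift_ι a ι hιa]
        rfl
      refine e1.trans ?_
      let q : V' ⟶ EtCoh.top X := (EtCore.topIsTerminal X).from _
      rw [← GrothLib.EtDer.map_cst A₀ q (ULift.up (n : ZMod p))]
      refine (NatTrans.naturality_apply ι.hom q.op _).trans ?_
      rw [hι]
      refine (map_nsmul ((EtCoh.Ga X).obj.map q.op).hom _ one₀).trans ?_
      refine Eq.trans ?_ (NatTrans.naturality_apply (kernel.ι a).hom m.op s).symm
      refine ULift.ext _ _ ?_
      change (n : ZMod p).val • q.left.appTop.hom (1 : Γ(X, ⊤)) = m.left.appTop.hom b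
      rw [map_one, nsmul_one]
      have hres : m.left.appTop.hom b = (n : Γ(V'.left, ⊤)) := by
        have hW' : ((V.left.presheaf.map i₁.op).hom b) = (V.left.presheaf.map i₂.op).hom (n : Γ(V.left, ⊤)) := hW
        rw [map_natCast] at hW'
        refine W.topIso.commRingCatIsoToRingEquiv.injective ?_
        rw [map_natCast]
        refine Eq.trans ?_ hW'
        change (W.ι.appTop ≫ W.topIso.hom).hom b = _
        have hWι : W.ι.appTop ≫ W.topIso.hom = V.left.presheaf.map (homOfLE le_top).op := by
          rw [Scheme.Opens.topIso_hom, Scheme.Hom.appTop, Scheme.Opens.ι_app]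
          erw [← V.left.presheaf.map_comp]
          rfl
        rw [hWι]
        rfl
      rw [hres, ZMod.val_natCast]
      have h0W : (p : Γ(V'.left, ⊤)) = 0 := by
        have := congrArg W.ι.appTop.hom h0V
        rwa [map_natCast, map_zero] at this
      conv_rhs => rw [← Nat.div_add_mod n p, Nat.cast_add, Nat.cast_mul, h0W, zero_mul, zero_add]
  exact ⟨asIso ι'⟩

/-- In characteristic `p`, constant mod `p` coefficients have no cohomology in degrees at least two on affines. -/
theorem H_const_eq_zero (X : Scheme.{u}) [IsAffine X] (p : ℕ) [Fact p.Prime] (h0 : (p : Γ(X, ⊤)) = 0) (r : ℕ)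
    (x : EtCoh.H X (EtCoh.const X (ZMod p)) (r + 2)) : x = 0 := by
  obtain ⟨e⟩ := exists_iso_const X p h0
  let a := W4c5etcohweilstudent.artinSchreierEndo X p (Fact.out : p.Prime) h0
  let T := ShortComplex.mk (kernel.ι a) a (kernel.condition a)
  haveI : Epi a := Groth.Agent.S18415.result p Fact.out h0
  have hT : T.ShortExact := { exact := T.exact_of_f_is_kernel (kernelIsKernel a) }
  let y : EtCoh.H X (kernel a) (r + 2) := Ext.comp x (Ext.mk₀ e.hom) (add_zero (r + 2))
  obtain ⟨w, hw⟩ := Ext.covariant_sequence_exact₁ _ hT y (ext_eq_zero X (r + 1) _ (acyclic_Ga X) _) rfl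
  have hy : y = 0 := by rw [← hw, ext_eq_zero X r _ (acyclic_Ga X) w, Ext.zero_comp]
  rw [← Ext.comp_mk₀_id x, ← e.hom_inv_id, ← Ext.mk₀_comp_mk₀, ← Ext.comp_assoc_of_third_deg_zero]
  change Ext.comp y _ _ = 0
  rw [hy, Ext.zero_comp]

end GrothLib.EtQc13
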