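import Groth.Agent.Lib.EtQc13.Affine
import Groth.Agent.Lib.EtDer.ResZar
import Groth.Agent.Lib.FlasqueEt18.Cont
import Groth.Agent.Lib.SheafCoh.Top
import Groth.Prelude.Def_Coh

/-!
# Étale and Zariski cohomology of sheaves acyclic for affine covers
-/

set_option autoImplicit false
set_option backward.isDefEq.respectTransparency false
set_option backward.isDefEq.respectTransparency.types false

universe u v w u₁ v₁ w₁ u₂ v₂ w₂ e₁ e₂

open CategoryTheory CategoryTheory.Limits CategoryTheory.Abelian AlgebraicGeometry Opposite TopologicalSpace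

noncomputable section

namespace GrothLib.EtQc13

section General

variable {C : Type u₁} [Category.{v₁} C] {J : GrothendieckTopology C} [HasSheafify J AddCommGrpCat.{w₁}]
  [HasExt.{e₁} (Sheaf J AddCommGrpCat.{w₁})] [EnoughInjectives (Sheaf J AddCommGrpCat.{w₁})]
  {D : Type u₂} [Category.{v₂} D] {K : GrothendieckTopology D} [HasSheafify K AddCommGrpCat.{w₂}]
  [HasExt.{e₂} (Sheaf K AddCommGrpCat.{w₂})]

/-- Comparison of sheaf cohomology along a functor preserving global sections. -/
theorem nonempty_H_equiv_of_sections (G : Sheaf J AddCommGrpCat.{w₁} ⥤ Sheaf K AddCommGrpCat.{w₂})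
    [G.PreservesZeroMorphisms] {T : C} (hT : IsTerminal T) {T' : D} (hT' : IsTerminal T')
    (ψ : ∀ F : Sheaf J AddCommGrpCat.{w₁}, F.obj.obj (op T) ≃+ (G.obj F).obj.obj (op T'))
    (hψ : ∀ {F F' : Sheaf J AddCommGrpCat.{w₁}} (g : F ⟶ F') (s : F.obj.obj (op T)),
      ψ F' (g.hom.app (op T) s) = (G.map g).hom.app (op T') (ψ F s))
    (P : Sheaf J AddCommGrpCat.{w₁} → Prop)
    (hG : ∀ F, P F → P (SheafCoh.injSES F).X₃ ∧ ((SheafCoh.injSES F).map G).ShortExact)
    (hI : ∀ I : Sheaf J AddCommGrpCat.{w₁}, Injective I → ∀ n : ℕ, Subsingleton (Sheaf.H.{e₂} (G.obj I) (n + 1)))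
    (F : Sheaf J AddCommGrpCat.{w₁}) (hF : P F) (n : ℕ) :
    Nonempty (Sheaf.H.{e₁} F n ≃+ Sheaf.H.{e₂} (G.obj F) n) := by
  let φ : ∀ F : Sheaf J AddCommGrpCat.{w₁},
      ((constantSheaf J AddCommGrpCat.{w₁}).obj (AddCommGrpCat.of (ULift ℤ)) ⟶ F) ≃+
      ((constantSheaf K AddCommGrpCat.{w₂}).obj (AddCommGrpCat.of (ULift ℤ)) ⟶ G.obj F) :=
    fun F => (Ext.addEquiv₀.{e₁}.symm.trans ((Sheaf.H.equiv₀ F hT).trans (ψ F))).trans
      ((Sheaf.H.equiv₀.{e₂} (G.obj F) hT').symm.trans Ext.addEquiv₀)
  refine EtDer.nonempty_ext_addEquiv_of_class G _ _ φ P (fun {F F'} g a => ?_) hG hI n F hF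
  obtain ⟨x, rfl⟩ := Ext.addEquiv₀.{e₁}.surjective a
  rw [← Sheaf.H.addEquiv₀_map]
  simp only [φ, AddEquiv.trans_apply, AddEquiv.symm_apply_apply]
  rw [← Sheaf.H.equiv₀_naturality, hψ, ← Sheaf.H.equiv₀_symm_naturality]
  exact Sheaf.H.addEquiv₀_map _ _

/-- A left exact functor into abelian sheaves is exact on a sequence once it preserves the epimorphism. -/
theorem shortExact_map_of_epi {A : Type u₁} [Category.{v₁} A] [Abelian A]
    (G : A ⥤ Sheaf K AddCommGrpCat.{w₂}) [G.PreservesZeroMorphisms] [PreservesFiniteLimits G]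
    {S : ShortComplex A} (hS : S.ShortExact) (h : Epi (G.map S.g)) : (S.map G).ShortExact := by
  haveI := hS.mono_f
  haveI : Mono (S.map G).f := inferInstanceAs (Mono (G.map S.f))
  haveI : Epi (S.map G).g := h
  exact { exact := ShortComplex.exact_of_f_is_kernel _ (KernelFork.mapIsLimit _ hS.fIsKernel G) }

end General

variable (X : Scheme.{u})

/-- The underlying space of a scheme, one universe up. -/
abbrev upTop : TopCat.{u + 1} := TopCat.of (ULift.{u + 1} X)

/-- Opens of the lifted space as opens of the scheme. -/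
def downOpens : Opens (upTop X) ⥤ X.Opens :=
  Monotone.functor (f := fun U => ⟨ULift.up ⁻¹' (U : Set (ULift.{u + 1} X)), U.isOpen.preimage continuous_uliftUp⟩)
    fun _ _ h _ hp => h hp

/-- Opens of the scheme as opens of the lifted space. -/
def upOpens : X.Opens ⥤ Opens (upTop X) :=
  Monotone.functor (f := fun U => (⟨ULift.down ⁻¹' (U : Set X), U.isOpen.preimage continuous_uliftDown⟩ : Opens (upTop X)))
    fun _ _ h _ hp => h hp

theorem downOpens_mem (U : Opens (upTop X)) (x : X) : x ∈ (downOpens X).obj U ↔ ULift.up x ∈ U := Iff.rfl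

theorem compatiblePreserving_downOpens :
    CompatiblePreserving.{u + 1} (Opens.grothendieckTopology X) (downOpens X) := by
  refine ⟨fun ℱ {Z T x} hx {Y₁ Y₂ V} f₁ f₂ {g₁ g₂} hg₁ hg₂ _ => ?_⟩
  let l : V ⟶ (downOpens X).obj (Y₁ ⊓ Y₂) := homOfLE fun p hp => ⟨f₁.le hp, f₂.le hp⟩
  have e := congrArg (ℱ.obj.map l.op) (hx (homOfLE (inf_le_left : Y₁ ⊓ Y₂ ≤ Y₁)) (homOfLE inf_le_right) hg₁ hg₂
    (Subsingleton.elim _ _))
  rw [Subsingleton.elim f₁ (l ≫ (downOpens X).map (homOfLE inf_le_left)),
    Subsingleton.elim f₂ (l ≫ (downOpens X).map (homOfLE inf_le_right)), op_comp, op_comp,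
    Functor.map_comp_apply, Functor.map_comp_apply]
  exact e

instance isContinuous_downOpens :
    (downOpens X).IsContinuous (Opens.grothendieckTopology (upTop X)) (Opens.grothendieckTopology X) :=
  Functor.isContinuous_of_coverPreserving (compatiblePreserving_downOpens X) ⟨fun {U S} hS x hx => by
    obtain ⟨W, k, hk, hxW⟩ := hS (ULift.up x) hx
    exact ⟨(downOpens X).obj W, (downOpens X).map k, Sieve.image_mem_functorPushforward _ _ hk, hxW⟩⟩

theorem compatiblePreserving_upOpens :
    CompatiblePreserving.{u + 1} (Opens.grothendieckTopology (upTop X)) (upOpens X) := by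
  refine ⟨fun ℱ {Z T x} hx {Y₁ Y₂ V} f₁ f₂ {g₁ g₂} hg₁ hg₂ _ => ?_⟩
  let l : V ⟶ (upOpens X).obj (Y₁ ⊓ Y₂) := homOfLE fun p hp => ⟨f₁.le hp, f₂.le hp⟩
  have e := congrArg (ℱ.obj.map l.op) (hx (homOfLE (inf_le_left : Y₁ ⊓ Y₂ ≤ Y₁)) (homOfLE inf_le_right) hg₁ hg₂
    (Subsingleton.elim _ _))
  rw [Subsingleton.elim f₁ (l ≫ (upOpens X).map (homOfLE inf_le_left)),
    Subsingleton.elim f₂ (l ≫ (upOpens X).map (homOfLE inf_le_right)), op_comp, op_comp,
    Functor.map_comp_apply, Functor.map_comp_apply]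
  exact e

instance isContinuous_upOpens :
    (upOpens X).IsContinuous (Opens.grothendieckTopology X) (Opens.grothendieckTopology (upTop X)) :=
  Functor.isContinuous_of_coverPreserving (compatiblePreserving_upOpens X) ⟨fun {U S} hS x hx => by
    obtain ⟨W, k, hk, hxW⟩ := hS x.down hx
    exact ⟨(upOpens X).obj W, (upOpens X).map k, Sieve.image_mem_functorPushforward _ _ hk, hxW⟩⟩

/-- Transport of Zariski sheaves to the lifted space. -/
abbrev upSheaf : EtZar.Ab X ⥤ CohTop.Ab (upTop X) :=
  (downOpens X).sheafPushforwardContinuous AddCommGrpCat.{u + 1} (Opens.grothendieckTopology (upTop X))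
    (Opens.grothendieckTopology X)

/-- Transport of sheaves back from the lifted space. -/
abbrev downSheaf : CohTop.Ab (upTop X) ⥤ EtZar.Ab X :=
  (upOpens X).sheafPushforwardContinuous AddCommGrpCat.{u + 1} (Opens.grothendieckTopology X)
    (Opens.grothendieckTopology (upTop X))

/-- Sheaves on the scheme and on the lifted space agree. -/
def upEquiv : EtZar.Ab X ≌ CohTop.Ab (upTop X) :=
  CategoryTheory.Equivalence.mk (upSheaf X) (downSheaf X)
    (NatIso.ofComponents (fun F => (fullyFaithfulSheafToPresheaf _ _).preimageIso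
      (NatIso.ofComponents (fun _ => Iso.refl _) fun {U V} f => by
        exact (Category.comp_id _).trans (Category.id_comp _).symm)) fun _ => by ext; rfl)
    (NatIso.ofComponents (fun F => (fullyFaithfulSheafToPresheaf _ _).preimageIso
      (NatIso.ofComponents (fun _ => Iso.refl _) fun {U V} f => by
        exact (Category.comp_id _).trans (Category.id_comp _).symm)) fun _ => by ext; rfl)

instance additive_upSheaf : (upSheaf X).Additive := ⟨fun {_ _ _ _} => rfl⟩

theorem preservesFiniteLimits_upSheaf : PreservesFiniteLimits (upSheaf X) :=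
  haveI : (upSheaf X).IsEquivalence := (upEquiv X).isEquivalence_functor
  inferInstance

theorem injective_upSheaf (I : EtZar.Ab X) [Injective I] : Injective ((upSheaf X).obj I) :=
  Injective.injective_of_adjoint (upEquiv X).symm.toAdjunction I

/-- Étale sheaves restricted to the lifted space. -/
abbrev resUp : EtCoh.Ab X ⥤ CohTop.Ab (upTop X) := EtZar.resZar X ⋙ upSheaf X

/-- Sheaves acyclic for affine covers have the same cohomology on the lifted space. -/
theorem nonempty_H_resUp (F : EtCoh.Ab X) (hF : (affClass X).Acyclic F) (n : ℕ) :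
    Nonempty (EtCoh.H X F n ≃+ CohTop.H ((resUp X).obj F) n) := by
  haveI := preservesFiniteLimits_upSheaf X
  haveI : PreservesFiniteLimits (resUp X) := comp_preservesFiniteLimits _ _
  haveI hι : IsIso (⊤ : X.Opens).ι := inferInstanceAs (IsIso X.topIso.hom)
  let hT : IsTerminal ((EtZar.zarToEt X).obj ⊤) :=
    (EtCore.topIsTerminal X).ofIso
      (MorphismProperty.Over.isoMk (@asIso _ _ _ _ _ hι).symm (@IsIso.inv_hom_id _ _ _ _ (⊤ : X.Opens).ι hι))
  refine nonempty_H_equiv_of_sections (resUp X) hT (isTerminalTop (α := Opens (upTop X)))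
    (fun F => AddEquiv.refl _) (fun g s => rfl) (affClass X).Acyclic (fun A hA => ?_) (fun I hI m => ?_) F hF n
  · have hS := SheafCoh.injSES_shortExact A
    refine ⟨(affClass X).acyclic_X₃ hS hA ((affClass X).acyclic_of_injective _), shortExact_map_of_epi _ hS ?_⟩
    haveI : Sheaf.IsLocallySurjective ((resUp X).map (SheafCoh.injSES A).g) := ⟨fun {U} s x hx => by
      obtain ⟨W, hW, hxW, hWU⟩ := exists_isAffineOpen_mem_and_subset (X := X) (U := (downOpens X).obj U)
        (x := x.down) hx
      haveI : IsAffine W.toScheme := hW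
      let W' : Opens (upTop X) := (upOpens X).obj W
      let i : W' ⟶ U := homOfLE fun p hp => hWU (show p.down ∈ W from hp)
      obtain ⟨r, hr⟩ := (affClass X).surjective hS hA (Y := (EtZar.zarToEt X).obj W)
        (show IsAffine W.toScheme from hW) (((resUp X).obj (SheafCoh.injSES A).X₃).obj.map i.op s)
      exact ⟨W', i, ⟨r, hr⟩, hxW⟩⟩
    exact Sheaf.epi_of_isLocallySurjective _
  · haveI := EtDer.injective_resZar I
    haveI : Injective ((resUp X).obj I) := injective_upSheaf X _
    exact Ext.subsingleton_of_injective _ _ _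

/-- Lifting the values of sheaves on a scheme, on the lifted space. -/
abbrev liftUp : Sheaf (Opens.grothendieckTopology X) AddCommGrpCat.{u} ⥤ CohTop.Ab (upTop X) :=
  sheafCompose (Opens.grothendieckTopology X) AddCommGrpCat.uliftFunctor.{u + 1, u} ⋙ upSheaf X

/-- Cohomology on a scheme is unchanged on the lifted space with lifted values. -/
theorem nonempty_H_liftUp (F : Sheaf (Opens.grothendieckTopology X) AddCommGrpCat.{u}) (n : ℕ) :
    Nonempty (Sheaf.H.{u} F n ≃+ CohTop.H ((liftUp X).obj F) n) := by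
  haveI := preservesFiniteLimits_upSheaf X
  let L := sheafCompose (Opens.grothendieckTopology X) AddCommGrpCat.uliftFunctor.{u + 1, u}
  haveI : PreservesFiniteLimits (L ⋙ sheafToPresheaf _ AddCommGrpCat.{u + 1}) :=
    inferInstanceAs (PreservesFiniteLimits (sheafToPresheaf _ AddCommGrpCat.{u} ⋙
      (Functor.whiskeringRight _ _ _).obj AddCommGrpCat.uliftFunctor.{u + 1, u}))
  haveI : PreservesFiniteLimits L := preservesFiniteLimits_of_reflects_of_preserves L (sheafToPresheaf _ _)
  haveI : PreservesFiniteLimits (liftUp X) := comp_preservesFiniteLimits _ _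
  haveI : (liftUp X).Additive := ⟨fun {_ _ _ _} => rfl⟩
  refine nonempty_H_equiv_of_sections (liftUp X) (isTerminalTop (α := X.Opens)) (isTerminalTop (α := Opens (upTop X)))
    (fun F => AddEquiv.ulift.symm) (fun g s => rfl) (fun _ => True) (fun A _ => ?_) (fun I hI m => ?_) F trivial n
  · have hS := SheafCoh.injSES_shortExact A
    refine ⟨trivial, shortExact_map_of_epi _ hS ?_⟩
    haveI := hS.epi_g
    haveI : Sheaf.IsLocallySurjective (SheafCoh.injSES A).g := (Sheaf.isLocallySurjective_iff_epi' _ _).2 inferInstance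
    haveI : Sheaf.IsLocallySurjective ((liftUp X).map (SheafCoh.injSES A).g) := ⟨fun {U} s x hx => by
      obtain ⟨W, i, ⟨r, hr⟩, hxW⟩ := Presheaf.imageSieve_mem (Opens.grothendieckTopology X) (SheafCoh.injSES A).g.hom
        (U := op ((downOpens X).obj U)) (ULift.down s) x.down hx
      let W' : Opens (upTop X) := (upOpens X).obj W
      refine ⟨W', homOfLE fun p hp => i.le (show p.down ∈ W from hp), ⟨ULift.up r, ?_⟩, hxW⟩
      exact ULift.ext _ _ hr⟩
    exact Sheaf.epi_of_isLocallySurjective _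
  · haveI := hI
    haveI : TopCat.Sheaf.IsFlasque (show CohTop.Ab X.toPresheafedSpace.carrier from I) := SheafCoh.isFlasque_of_injective _
    haveI : TopCat.Sheaf.IsFlasque ((liftUp X).obj I) := ⟨fun {U V} i => (AddCommGrpCat.epi_iff_surjective _).2 fun s => by
      obtain ⟨r, hr⟩ := SheafCoh.restriction_surjective_of_injective (show CohTop.Ab X.toPresheafedSpace.carrier from I)
        ((downOpens X).map i.unop) (ULift.down s)
      exact ⟨ULift.up r, ULift.ext _ _ hr⟩⟩
    exact SheafCoh.flasque_H_subsingleton _ m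

end GrothLib.EtQc13
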