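import Groth.Agent.Lib.EtSite.Points
import Groth.Agent.Lib.EtSite.ConnFibres
import Groth.Agent.Lib.EtColim.Cohomology
import Groth.Agent.Lib.FibPow.Cartan
import Groth.Agent.Lib.FibPow.Pullback
import Groth.Agent.Lib.Amitsur.Basic
import Groth.Prelude.Def_EtGm
import Mathlib.Algebra.Homology.DerivedCategory.Ext.EnoughInjectives
import Mathlib.AlgebraicGeometry.Morphisms.Flat

/-!
# Vanishing of étale cohomology on affine schemes by Čech acyclicity for affine covers
-/

set_option autoImplicit false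
set_option backward.isDefEq.respectTransparency false
set_option backward.isDefEq.respectTransparency.types false

universe u

open CategoryTheory CategoryTheory.Limits CategoryTheory.Abelian AlgebraicGeometry Opposite Simplicial
open GrothLib.EtSite GrothLib.EtColim

noncomputable section

namespace GrothLib.EtQc13

variable {X : Scheme.{u}}

/-- The underlying scheme functor of the small étale site. -/
abbrev sch (X : Scheme.{u}) : X.Etale ⥤ Scheme.{u} := Scheme.Etale.forget X ⋙ Over.forget X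

theorem isAffine_pow {T Y : X.Etale} (f : T ⟶ Y) [IsAffine T.left] [IsAffine Y.left] :
    ∀ n, IsAffine (FibPow.powAux f n).1.left := by
  intro n
  induction n with
  | zero => exact inferInstanceAs (IsAffine T.left)
  | succ n ih =>
    haveI := ih
    haveI : IsAffineHom (((sch X).map f)) := isAffineHom_of_isAffine (f := f.left)
    haveI : IsAffine ((sch X).obj (FibPow.powAux f n).1) := ih
    exact IsAffine.of_isPullback
      ((IsPullback.of_hasPullback ((FibPow.powAux f n).2 0 ≫ f) f).map (sch X))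

theorem isAffine_fibPow {T Y : X.Etale} {f : T ⟶ Y} [IsAffine T.left] [IsAffine Y.left] (E : FibPow f) (n : ℕ) :
    IsAffine (E.P n).left := by
  haveI : IsAffine (FibPow.powAux f n).1.left := isAffine_pow f n
  obtain ⟨l, hl⟩ := E.exists_lift n (FibPow.powAux f n).2 (FibPow.isPow_powAux f n).w
  obtain ⟨l', hl'⟩ := (FibPow.isPow_powAux f n).exists_lift (E.π n) (E.w n)
  have h₁ : l' ≫ l = 𝟙 _ := E.hom_ext n _ _ fun i => by rw [Category.assoc, hl, hl', Category.id_comp]
  have h₂ : l ≫ l' = 𝟙 _ := (FibPow.isPow_powAux f n).hom_ext _ _ fun i => by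
    rw [Category.assoc, hl', hl, Category.id_comp]
  haveI : IsIso ((sch X).map l') := ⟨(sch X).map l, by rw [← CategoryTheory.Functor.map_comp, h₁, CategoryTheory.Functor.map_id],
    by rw [← CategoryTheory.Functor.map_comp, h₂, CategoryTheory.Functor.map_id]⟩
  haveI : IsAffine ((sch X).obj (FibPow.powAux f n).1) := isAffine_pow f n
  exact IsAffine.of_isIso ((sch X).map l')

theorem exists_affine_cover_lift {Y : X.Etale} [IsAffine Y.left] {F G : EtCoh.Ab X} (φ : F ⟶ G)
    (s : G.obj.obj (op Y)) (hs : Presheaf.imageSieve φ.hom s ∈ X.smallEtaleTopology Y) :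
    ∃ (T : X.Etale) (f : T ⟶ Y), IsAffine T.left ∧ Surjective f.left ∧
      Sieve.generate (Presieve.singleton f) ∈ X.smallEtaleTopology Y ∧
      ∃ r, φ.hom.app (op T) r = G.obj.map f.op s := by
  classical
  choose V g v hg hv using (mem_topology_iff _).1 hs
  choose W hW hvW _hW' using fun u : Y.left =>
    exists_isAffineOpen_mem_and_subset (X := (V u).left) (U := ⊤) (x := v u) trivial
  haveI : ∀ u, Etale (g u).left := fun u => GrothLib.ConnFibres.etale_left (g u)
  let O : Y.left → Y.left.Opens := fun u =>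
    ⟨(g u).left '' (W u : Set (V u).left), (g u).left.isOpenMap _ (W u).isOpen⟩
  have hO : ∀ u, u ∈ O u := fun u => ⟨v u, hvW u, hv u⟩
  obtain ⟨t, ht⟩ := isCompact_univ.elim_finite_subcover (fun u => (O u : Set Y.left))
    (fun u => (O u).isOpen) fun u _ => Set.mem_iUnion.2 ⟨u, hO u⟩
  let κ := ULift.{u} (Fin t.card)
  let c : κ → Y.left := fun k => (t.equivFin.symm k.down).1
  let Z : κ → Scheme.{u} := fun k => (W (c k)).toScheme
  haveI : ∀ k, IsAffine (Z k) := fun k => hW (c k)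
  let b : ∀ k, Z k ⟶ Y.left := fun k => (W (c k)).ι ≫ (g (c k)).left
  haveI : ∀ k, Etale (b k) := fun k => inferInstanceAs (Etale ((W (c k)).ι ≫ (g (c k)).left))
  haveI : Etale (Sigma.desc b) := IsZariskiLocalAtSource.sigmaDesc fun k => inferInstance
  haveI : Etale Y.hom := Y.prop
  haveI hA : IsAffine (∐ Z) := inferInstance
  let T : X.Etale := MorphismProperty.Over.mk _ (Sigma.desc b ≫ Y.hom) (inferInstanceAs (Etale (Sigma.desc b ≫ Y.hom)))
  let f : T ⟶ Y := MorphismProperty.Over.homMk (Sigma.desc b) rfl trivial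
  haveI hAT : IsAffine T.left := hA
  have hsurj : ∀ y : Y.left, ∃ k, ∃ z : Z k, b k z = y := fun y => by
    obtain ⟨u, hu, hy⟩ := Set.mem_iUnion₂.1 (ht (Set.mem_univ y))
    have hk : ∃ k : κ, y ∈ (O (c k) : Set Y.left) := ⟨⟨t.equivFin ⟨u, hu⟩⟩, by simpa [c] using hy⟩
    obtain ⟨k, w, hw, hwy⟩ := hk
    exact ⟨k, ⟨w, hw⟩, hwy⟩
  haveI hf : Surjective f.left := ⟨fun y => by
    obtain ⟨k, z, hz⟩ := hsurj y
    refine ⟨Sigma.ι Z k z, ?_⟩
    show Sigma.desc b (Sigma.ι Z k z) = y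
    rw [← Scheme.Hom.comp_apply, Sigma.ι_desc]
    exact hz⟩
  refine ⟨T, f, hAT, hf, (mem_topology_iff _).2 fun y => ?_, ?_⟩
  · obtain ⟨z, hz⟩ := f.left.surjective y
    exact ⟨T, f, z, ⟨T, 𝟙 T, f, ⟨⟩, Category.id_comp f⟩, hz⟩
  let V' : κ → X.Etale := fun k =>
    MorphismProperty.Over.mk _ (b k ≫ Y.hom) (inferInstanceAs (Etale (b k ≫ Y.hom)))
  let j : ∀ k, V' k ⟶ T := fun k => MorphismProperty.Over.homMk (Sigma.ι Z k) (by
    show Sigma.ι Z k ≫ Sigma.desc b ≫ Y.hom = b k ≫ Y.hom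
    rw [Sigma.ι_desc_assoc]) trivial
  let wV : ∀ k, V' k ⟶ V (c k) := fun k => MorphismProperty.Over.homMk (W (c k)).ι (by
    show (W (c k)).ι ≫ (V (c k)).hom = ((W (c k)).ι ≫ (g (c k)).left) ≫ Y.hom
    rw [Category.assoc]
    exact congrArg ((W (c k)).ι ≫ ·) (MorphismProperty.Over.w (g (c k))).symm) trivial
  have hjf : ∀ k, j k ≫ f = wV k ≫ g (c k) := fun k => MorphismProperty.Over.Hom.ext (Sigma.ι_desc _ _)
  choose r₁ hr₁ using fun k => hg (c k)
  let FT := (sheafCompose X.smallEtaleTopology (forget AddCommGrpCat.{u + 1})).obj F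
  let GT := (sheafCompose X.smallEtaleTopology (forget AddCommGrpCat.{u + 1})).obj G
  have hcov : Sieve.generate (Presieve.ofArrows V' j) ∈ X.smallEtaleTopology T :=
    (mem_topology_iff _).2 fun z => by
      obtain ⟨k, w, hw⟩ := (sigmaOpenCover Z).exists_eq z
      exact ⟨V' k, j k, w, ⟨_, 𝟙 _, j k, Presieve.ofArrows.mk k, Category.id_comp _⟩, hw⟩
  have hsh : ∀ H : Sheaf X.smallEtaleTopology (Type (u + 1)), (Presieve.ofArrows V' j).IsSheafFor H.obj :=
    fun H => (Presieve.isSheafFor_iff_generate _).2 ((isSheaf_iff_isSheaf_of_type _ _).1 H.property _ hcov)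
  obtain ⟨r₀, hr₀, -⟩ := (Presieve.isSheafFor_arrows_iff _ _).1 (hsh FT)
    (fun k => F.obj.map (wV k).op (r₁ k)) (fun i i' Z' gi gj hij => by
      by_cases h : i = i'
      · subst h
        haveI : IsOpenImmersion (j i).left := inferInstanceAs (IsOpenImmersion (Sigma.ι Z i))
        obtain rfl : gi = gj := MorphismProperty.Over.Hom.ext
          ((cancel_mono (j i).left).1 (congrArg (fun m : Z' ⟶ T => m.left) hij))
        rfl
      · haveI : IsEmpty Z'.left := ⟨fun z =>
          (disjoint_opensRange_sigmaι Z i i' h).le_bot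
            ⟨⟨gi.left z, rfl⟩, ⟨gj.left z, (congr($(hij).left.base z)).symm⟩⟩⟩
        exact (((isSheaf_iff_isSheaf_of_type _ _).1 FT.property ⊥
          ((mem_topology_iff _).2 fun u => isEmptyElim u)).isSeparatedFor).ext fun _ _ h => h.elim)
  change F.obj.obj (op T) at r₀
  refine ⟨r₀, (hsh GT).isSeparatedFor.ext ?_⟩
  rintro _ _ ⟨k⟩
  show G.obj.map (j k).op (φ.hom.app (op T) r₀) = G.obj.map (j k).op (G.obj.map f.op s)
  rw [← Functor.map_comp_apply, ← op_comp, hjf, op_comp, Functor.map_comp_apply, ← hr₁ k]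
  refine (ConcreteCategory.congr_hom (φ.hom.naturality (j k).op) r₀).symm.trans ?_
  refine Eq.trans ?_ (ConcreteCategory.congr_hom (φ.hom.naturality (wV k).op) (r₁ k))
  exact congrArg (φ.hom.app (op (V' k))) (hr₀ k)

/-- Affine objects with their surjective affine covers. -/
def affClass (X : Scheme.{u}) : FibPow.CoverClass.{u + 1} X.smallEtaleTopology where
  B Y := IsAffine Y.left
  Cov T Y f := IsAffine T.left ∧ IsAffine Y.left ∧ Surjective f.left
  mem _ _ f E := fun ⟨h₁, h₂, _⟩ n => isAffine_fibPow E n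
  refine' Y hY F G φ s hs := by
    haveI : IsAffine Y.left := hY
    obtain ⟨T, f, hT, hf, hcov, hr⟩ := exists_affine_cover_lift φ s hs
    exact ⟨T, f, FibPow.ofPullbacks f, ⟨hT, hY, hf⟩, hcov, hr⟩

theorem evOne_comp {F G : EtCoh.Ab X} (a : Z X ⟶ F) (g : F ⟶ G) :
    evOne G (a ≫ g) = g.hom.app (op (EtCoh.top X)) (evOne F a) := rfl

/-- Acyclic sheaves have no higher cohomology on an affine scheme. -/
theorem ext_eq_zero (X : Scheme.{u}) [IsAffine X] :
    ∀ (q : ℕ) (F : EtCoh.Ab X), (affClass X).Acyclic F → ∀ x : EtCoh.H X F (q + 1), x = 0 := by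
  intro q
  induction q with
  | zero =>
    intro F hF x
    obtain ⟨⟨I, m, hm⟩⟩ : Nonempty (Σ' (I : EtCoh.Ab X) (m : F ⟶ I), Mono m ∧ Injective I) :=
      ⟨⟨_, Injective.ι F, inferInstance, inferInstance⟩⟩
    haveI := hm.1
    haveI := hm.2
    let S : ShortComplex (EtCoh.Ab X) := ShortComplex.mk m (cokernel.π m) (cokernel.condition m)
    have hS : S.ShortExact := { exact := ShortComplex.exact_of_g_is_cokernel S (cokernelIsCokernel m) }
    obtain ⟨x₃, hx⟩ := Ext.covariant_sequence_exact₁ _ hS x (Ext.eq_zero_of_injective _) rfl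
    obtain ⟨φ, rfl⟩ := Ext.addEquiv₀.symm.surjective x₃
    obtain ⟨r, hr⟩ := (affClass X).surjective hS hF (Y := EtCoh.top X) (show IsAffine X from inferInstance) (evOne _ φ)
    obtain ⟨ψ, hψ⟩ := (bijective_evOne S.X₂).2 r
    have hcomp : ψ ≫ S.g = φ := (bijective_evOne S.X₃).1 (by rw [evOne_comp, hψ, hr])
    rw [← hx, ← hcomp, Ext.addEquiv₀_symm_apply, ← Ext.mk₀_comp_mk₀, Ext.comp_assoc_of_second_deg_zero,
      ShortComplex.ShortExact.comp_extClass, Ext.comp_zero]
  | succ n ih =>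
    intro F hF x
    obtain ⟨⟨I, m, hm⟩⟩ : Nonempty (Σ' (I : EtCoh.Ab X) (m : F ⟶ I), Mono m ∧ Injective I) :=
      ⟨⟨_, Injective.ι F, inferInstance, inferInstance⟩⟩
    haveI := hm.1
    haveI := hm.2
    let S : ShortComplex (EtCoh.Ab X) := ShortComplex.mk m (cokernel.π m) (cokernel.condition m)
    have hS : S.ShortExact := { exact := ShortComplex.exact_of_g_is_cokernel S (cokernelIsCokernel m) }
    obtain ⟨x₃, hx⟩ := Ext.covariant_sequence_exact₁ _ hS x (Ext.eq_zero_of_injective _) rfl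
    have h₃ : (affClass X).Acyclic S.X₃ :=
      (affClass X).acyclic_X₃ hS hF ((affClass X).acyclic_of_injective I)
    rw [← hx, ih S.X₃ h₃ x₃, Ext.zero_comp]

theorem subsingleton_H (X : Scheme.{u}) [IsAffine X] (F : EtCoh.Ab X) (hF : (affClass X).Acyclic F)
    (p : ℕ) (hp : 1 ≤ p) : Subsingleton (EtCoh.H X F p) := by
  obtain ⟨q, rfl⟩ : ∃ q, p = q + 1 := ⟨p - 1, by omega⟩
  exact ⟨fun a b => (ext_eq_zero X q F hF a).trans (ext_eq_zero X q F hF b).symm⟩

theorem appTop_ΓSpecIso_inv (T : Scheme.{u}) [IsAffine T] :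
    T.isoSpec.inv.appTop ≫ (Scheme.ΓSpecIso Γ(T, ⊤)).hom = 𝟙 _ := by
  rw [← Scheme.toSpecΓ_appTop, ← Scheme.Hom.comp_appTop]
  have : T.toSpecΓ ≫ T.isoSpec.inv = 𝟙 _ := T.isoSpec.hom_inv_id
  rw [this]
  rfl

/-- The additive group is acyclic for affine covers. -/
theorem acyclic_Ga (X : Scheme.{u}) : (affClass X).Acyclic (EtCoh.Ga X) := by
  intro T Y f E hf n c hc
  obtain ⟨hT, hY, hs⟩ := hf
  haveI : IsAffine T.left := hT
  haveI : IsAffine Y.left := hY
  haveI : Etale f.left := GrothLib.ConnFibres.etale_left f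
  haveI : Surjective f.left := hs
  letI : Algebra Γ(Y.left, ⊤) Γ(T.left, ⊤) := (f.left.appTop).hom.toAlgebra
  haveI : Module.FaithfullyFlat Γ(Y.left, ⊤) Γ(T.left, ⊤) := by
    have := (Flat.flat_and_surjective_iff_faithfullyFlat_of_isAffine f.left).1 ⟨inferInstance, inferInstance⟩
    exact this
  let R := Γ(Y.left, ⊤)
  let A := Γ(T.left, ⊤)
  let pr : ∀ (m : ℕ) (i : Fin (m + 1)), (E.P m).left ⟶ T.left := fun m i => (E.π m i).left
  have hpr : ∀ m i j, pr m i ≫ f.left = pr m j ≫ f.left := fun m i j =>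
    congrArg (fun q : E.P m ⟶ Y => q.left) (E.w m i j)
  let φ : ∀ m, (Amitsur.con R A).obj ⦋m⦌ ⟶ Γ((E.P m).left, ⊤) := fun m =>
    WidePushout.desc (arrows := Amitsur.arrs R A m) ((pr m 0 ≫ f.left).appTop) (fun i => (pr m i).appTop) (fun i => by
      show f.left.appTop ≫ (pr m i).appTop = _
      rw [← Scheme.Hom.comp_appTop, hpr m i 0])
  have hφ : ∀ m i, Amitsur.inj R A m i ≫ φ m = (pr m i).appTop := fun m i =>
    WidePushout.ι_desc (arrows := Amitsur.arrs R A m) _ _ _ i
  let comp : ∀ m (i : Fin (m + 1)), Spec ((Amitsur.con R A).obj ⦋m⦌) ⟶ T.left := fun m i =>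
    Spec.map (Amitsur.inj R A m i) ≫ T.left.isoSpec.inv
  have hcomp : ∀ m i j, comp m i ≫ (sch X).map f = comp m j ≫ (sch X).map f := by
    have : ∀ m i, comp m i ≫ f.left = Spec.map (Amitsur.hd R A m) ≫ Y.left.isoSpec.inv := fun m i => by
      simp only [comp, Category.assoc]
      rw [← Scheme.isoSpec_inv_naturality, ← Spec.map_comp_assoc]
      exact congrArg (fun q => Spec.map q ≫ Y.left.isoSpec.inv) (Amitsur.arr_inj R A m i)
    exact fun m i j => (this m i).trans (this m j).symm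
  have hl : ∀ m, ∃ l : Spec ((Amitsur.con R A).obj ⦋m⦌) ⟶ (E.P m).left, ∀ i, l ≫ pr m i = comp m i := fun m =>
    (FibPow.isPow_map f (sch X) E m).exists_lift (comp m) (hcomp m)
  choose l hl using hl
  let ψ : ∀ m, Γ((E.P m).left, ⊤) ⟶ (Amitsur.con R A).obj ⦋m⦌ := fun m =>
    (l m).appTop ≫ (Scheme.ΓSpecIso _).hom
  have h₁ : ∀ m, φ m ≫ ψ m = 𝟙 _ := fun m => by
    refine Amitsur.con_ext R A _ _ fun i => ?_
    rw [← Category.assoc, hφ]
    simp only [ψ]
    rw [← Scheme.Hom.comp_appTop_assoc, hl, Category.comp_id]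
    simp only [comp]
    rw [Scheme.Hom.comp_appTop_assoc, Scheme.ΓSpecIso_naturality, ← Category.assoc]
    exact (congrArg (· ≫ Amitsur.inj R A m i) (appTop_ΓSpecIso_inv T.left)).trans (Category.id_comp _)
  have h₂ : ∀ m, ψ m ≫ φ m = 𝟙 _ := fun m => by
    let μ : (E.P m).left ⟶ Spec ((Amitsur.con R A).obj ⦋m⦌) := (E.P m).left.toSpecΓ ≫ Spec.map (φ m)
    have hμ : μ ≫ l m = 𝟙 _ := (FibPow.isPow_map f (sch X) E m).hom_ext _ _ fun i => by
      show (μ ≫ l m) ≫ pr m i = 𝟙 _ ≫ pr m i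
      rw [Category.assoc, hl, Category.id_comp]
      simp only [μ, comp, Category.assoc]
      rw [← Spec.map_comp_assoc, hφ, ← Scheme.toSpecΓ_naturality_assoc]
      exact (congrArg (pr m i ≫ ·) T.left.isoSpec.hom_inv_id).trans (Category.comp_id _)
    have h := congrArg Scheme.Hom.appTop hμ
    rw [Scheme.Hom.comp_appTop, Scheme.Hom.comp_appTop, Scheme.Hom.id_appTop, Scheme.toSpecΓ_appTop,
      Scheme.ΓSpecIso_naturality] at h
    exact (Category.assoc _ _ _).trans h
  let val : ∀ {W : X.Etale}, (EtCoh.Ga X).obj.obj (op W) →+ Γ(W.left, ⊤) := fun {W} =>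
    AddEquiv.ulift.toAddMonoidHom
  have hδ : ∀ m (i : Fin (m + 2)) (x : Amitsur.C R A m),
      φ (m + 1) (Amitsur.δA R A m i x) = (E.δ m i).left.appTop (φ m x) := by
    intro m i x
    have h : (Amitsur.con R A).δ i ≫ φ (m + 1) = φ m ≫ (E.δ m i).left.appTop := by
      refine Amitsur.con_ext R A _ _ fun j => ?_
      rw [← Category.assoc, Amitsur.inj_δ, hφ, ← Category.assoc, hφ, ← Scheme.Hom.comp_appTop]
      exact congrArg Scheme.Hom.appTop (congrArg (fun q : E.P (m + 1) ⟶ T => q.left) (E.δ_π m i j)).symm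
    exact ConcreteCategory.congr_hom h x
  have hd : ∀ m (x : Amitsur.C R A m),
      E.d (EtCoh.Ga X).obj m (ULift.up (φ m x) : ULift.{u + 1} Γ((E.P m).left, ⊤)) =
        (ULift.up (φ (m + 1) (Amitsur.d R A m x)) : ULift.{u + 1} Γ((E.P (m + 1)).left, ⊤)) := by
    intro m x
    apply AddEquiv.ulift.injective
    show val (E.d (EtCoh.Ga X).obj m _) = φ (m + 1) (Amitsur.d R A m x)
    rw [FibPow.d_apply, map_sum, Amitsur.d_apply, map_sum]
    refine Finset.sum_congr rfl fun i _ => ?_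
    rw [map_zsmul, map_zsmul, hδ]
    rfl
  have hφinj : ∀ m, Function.Injective (φ m) := fun m =>
    Function.LeftInverse.injective (g := fun y => ψ m y) fun x => ConcreteCategory.congr_hom (h₁ m) x
  let x := ψ (n + 1) (val c)
  have hx : φ (n + 1) x = val c := ConcreteCategory.congr_hom (h₂ (n + 1)) _
  have hc' : c = (ULift.up (φ (n + 1) x) : ULift.{u + 1} Γ((E.P (n + 1)).left, ⊤)) := by
    rw [hx]; rfl
  rw [hc', hd] at hc
  have hdx : Amitsur.d R A (n + 1) x = 0 :=
    hφinj (n + 2) ((congrArg ULift.down hc).trans (map_zero _).symm)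
  obtain ⟨w, hw⟩ := Amitsur.exact_d R A n x hdx
  exact ⟨(ULift.up (φ n w) : ULift.{u + 1} Γ((E.P n).left, ⊤)), by rw [hd, hw, ← hc']⟩

/-- The additive group has no higher étale cohomology on affine schemes. -/
theorem subsingleton_H_Ga (X : Scheme.{u}) [IsAffine X] (p : ℕ) (hp : 1 ≤ p) :
    Subsingleton (EtCoh.H X (EtCoh.Ga X) p) :=
  subsingleton_H X _ (acyclic_Ga X) p hp

end GrothLib.EtQc13
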