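import Groth.Agent.Lib.EtQc13.AssocRes
import Groth.Agent.Lib.EtQc13.Affine
import Groth.Agent.Lib.Amitsur.Mod

/-!
# The étale sheaf associated to a quasi-coherent module is acyclic for affine covers
-/

set_option autoImplicit false
set_option backward.isDefEq.respectTransparency false
set_option backward.isDefEq.respectTransparency.types false

universe u

open CategoryTheory CategoryTheory.Limits CategoryTheory.Abelian AlgebraicGeometry Opposite Simplicial TensorProduct
open GrothLib.EtSite GrothLib.EtColim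

noncomputable section

namespace GrothLib.EtQc13

variable {X : Scheme.{u}}

/-- The functions on the fibre powers of an affine cover form the Amitsur complex. -/
theorem exists_conIso {T Y : X.Etale} {f : T ⟶ Y} (E : FibPow f) [IsAffine T.left] [IsAffine Y.left] :
    letI : Algebra Γ(Y.left, ⊤) Γ(T.left, ⊤) := (f.left.appTop).hom.toAlgebra
    ∃ φ : ∀ m, (Amitsur.con Γ(Y.left, ⊤) Γ(T.left, ⊤)).obj ⦋m⦌ ≅ Γ((E.P m).left, ⊤),
      (∀ m, Amitsur.hd Γ(Y.left, ⊤) Γ(T.left, ⊤) m ≫ (φ m).hom = (E.π m 0 ≫ f).left.appTop) ∧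
      ∀ m i, (Amitsur.con Γ(Y.left, ⊤) Γ(T.left, ⊤)).δ i ≫ (φ (m + 1)).hom =
        (φ m).hom ≫ (E.δ m i).left.appTop := by
  letI : Algebra Γ(Y.left, ⊤) Γ(T.left, ⊤) := (f.left.appTop).hom.toAlgebra
  let R := Γ(Y.left, ⊤)
  let A := Γ(T.left, ⊤)
  let pr : ∀ (m : ℕ) (i : Fin (m + 1)), (E.P m).left ⟶ T.left := fun m i => (E.π m i).left
  have hpr : ∀ m i j, pr m i ≫ f.left = pr m j ≫ f.left := fun m i j =>
    congrArg (fun q : E.P m ⟶ Y => q.left) (E.w m i j)
  let φ : ∀ m, (Amitsur.con R A).obj ⦋m⦌ ⟶ Γ((E.P m).left, ⊤) := fun m =>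
    WidePushout.desc (arrows := Amitsur.arrs R A m) ((pr m 0 ≫ f.left).appTop) (fun i => (pr m i).appTop) (fun i => by
      show f.left.appTop ≫ (pr m i).appTop = _
      rw [← Scheme.Hom.comp_appTop, hpr m i 0])
  have hφ : ∀ m i, Amitsur.inj R A m i ≫ φ m = (pr m i).appTop := fun m i =>
    WidePushout.ι_desc (arrows := Amitsur.arrs R A m) _ _ _ i
  let comp : ∀ m (i : Fin (m + 1)), Spec ((Amitsur.con R A).obj ⦋m⦌) ⟶ T.left := fun m i =>
    Spec.map (Amitsur.inj R A m i) ≫ T.left.isoSpec.inv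
  have hcomp : ∀ m i j, comp m i ≫ (sch X).map f = comp m j ≫ (sch X).map f := by
    have : ∀ m i, comp m i ≫ f.left = Spec.map (Amitsur.hd R A m) ≫ Y.left.isoSpec.inv := fun m i => by
      simp only [comp, Category.assoc]
      rw [← Scheme.isoSpec_inv_naturality, ← Spec.map_comp_assoc]
      exact congrArg (fun q => Spec.map q ≫ Y.left.isoSpec.inv) (Amitsur.arr_inj R A m i)
    exact fun m i j => (this m i).trans (this m j).symm
  have hl : ∀ m, ∃ l : Spec ((Amitsur.con R A).obj ⦋m⦌) ⟶ (E.P m).left, ∀ i, l ≫ pr m i = comp m i := fun m =>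
    (FibPow.isPow_map f (sch X) E m).exists_lift (comp m) (hcomp m)
  choose l hl using hl
  let ψ : ∀ m, Γ((E.P m).left, ⊤) ⟶ (Amitsur.con R A).obj ⦋m⦌ := fun m =>
    (l m).appTop ≫ (Scheme.ΓSpecIso _).hom
  have h₁ : ∀ m, φ m ≫ ψ m = 𝟙 _ := fun m => by
    refine Amitsur.con_ext R A _ _ fun i => ?_
    rw [← Category.assoc, hφ]
    simp only [ψ]
    rw [← Scheme.Hom.comp_appTop_assoc, hl, Category.comp_id]
    simp only [comp]
    rw [Scheme.Hom.comp_appTop_assoc, Scheme.ΓSpecIso_naturality, ← Category.assoc]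
    exact (congrArg (· ≫ Amitsur.inj R A m i) (appTop_ΓSpecIso_inv T.left)).trans (Category.id_comp _)
  have h₂ : ∀ m, ψ m ≫ φ m = 𝟙 _ := fun m => by
    let μ : (E.P m).left ⟶ Spec ((Amitsur.con R A).obj ⦋m⦌) := (E.P m).left.toSpecΓ ≫ Spec.map (φ m)
    have hμ : μ ≫ l m = 𝟙 _ := (FibPow.isPow_map f (sch X) E m).hom_ext _ _ fun i => by
      show (μ ≫ l m) ≫ pr m i = 𝟙 _ ≫ pr m i
      rw [Category.assoc, hl, Category.id_comp]
      simp only [μ, comp, Category.assoc]
      rw [← Spec.map_comp_assoc, hφ, ← Scheme.toSpecΓ_naturality_assoc]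
      exact (congrArg (pr m i ≫ ·) T.left.isoSpec.hom_inv_id).trans (Category.comp_id _)
    have h := congrArg Scheme.Hom.appTop hμ
    rw [Scheme.Hom.comp_appTop, Scheme.Hom.comp_appTop, Scheme.Hom.id_appTop, Scheme.toSpecΓ_appTop,
      Scheme.ΓSpecIso_naturality] at h
    exact (Category.assoc _ _ _).trans h
  refine ⟨fun m => ⟨φ m, ψ m, h₁ m, h₂ m⟩, fun m => WidePushout.head_desc (arrows := Amitsur.arrs R A m) _ _ _,
    fun m i => ?_⟩
  refine Amitsur.con_ext R A _ _ fun j => ?_
  show Amitsur.inj R A m j ≫ (Amitsur.con R A).δ i ≫ φ (m + 1) = Amitsur.inj R A m j ≫ φ m ≫ (E.δ m i).left.appTop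
  rw [← Category.assoc, Amitsur.inj_δ, hφ, ← Category.assoc, hφ, ← Scheme.Hom.comp_appTop]
  exact congrArg Scheme.Hom.appTop (congrArg (fun q : E.P (m + 1) ⟶ T => q.left) (E.δ_π m i j)).symm

/-- The associated sheaf of a quasi-coherent module is acyclic for affine covers. -/
theorem acyclic_of_isAssoc (F : X.Modules) [F.IsQuasicoherent] {G : EtCoh.Ab X} (hG : EtAssoc.IsAssoc F G) :
    (affClass X).Acyclic G := by
  obtain ⟨e₀, he₀⟩ := hG
  let e : ∀ U : X.Etale, (G.obj.obj (op U) : Type (u + 1)) ≃+ asc F U := fun U =>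
    (e₀ U).trans AddEquiv.ulift
  have he : ∀ {U U' : X.Etale} (g : U' ⟶ U) (s : G.obj.obj (op U)),
      e U' (G.obj.map g.op s) = resA F g (e U s) := fun g s => he₀ _ _ g s
  have hcomp : ∀ {U U' U'' : X.Etale} (g : U' ⟶ U) (g' : U'' ⟶ U') (s : asc F U),
      resA F g' (resA F g s) = resA F (g' ≫ g) s := fun g g' s => by
    obtain ⟨t, rfl⟩ := (e _).surjective s
    rw [← he, ← he, ← he, op_comp, Functor.map_comp_apply]
  intro T Y f E hf n c hc
  obtain ⟨hT, hY, hs⟩ := hf
  haveI : IsAffine T.left := hT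
  haveI : IsAffine Y.left := hY
  haveI : Etale f.left := GrothLib.ConnFibres.etale_left f
  haveI : Surjective f.left := hs
  letI : Algebra Γ(Y.left, ⊤) Γ(T.left, ⊤) := (f.left.appTop).hom.toAlgebra
  haveI : Module.FaithfullyFlat Γ(Y.left, ⊤) Γ(T.left, ⊤) := by
    have := (Flat.flat_and_surjective_iff_faithfullyFlat_of_isAffine f.left).1 ⟨inferInstance, inferInstance⟩
    exact this
  let R := Γ(Y.left, ⊤)
  let A := Γ(T.left, ⊤)
  let M := asc F Y
  obtain ⟨φ, hhd, hδ⟩ := exists_conIso E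
  let h : ∀ m, E.P m ⟶ Y := fun m => E.π m 0 ≫ f
  have hh : ∀ m i, E.δ m i ≫ h m = h (m + 1) := fun m i => by
    rw [← Category.assoc, E.δ_π]
    exact E.w (m + 1) _ _
  have key : ∀ m, ∃ Φ : Amitsur.C R A m ⊗[R] M ≃+ G.obj.obj (op (E.P m)),
      ∀ x s, e _ (Φ (x ⊗ₜ s)) = (φ m).hom x • resA F (h m) s := by
    intro m
    letI : Algebra R Γ((E.P m).left, ⊤) := ((h m).left.appTop).hom.toAlgebra
    haveI : IsAffine (E.P m).left := isAffine_fibPow E m
    let φl : Amitsur.C R A m ≃ₗ[R] Γ((E.P m).left, ⊤) :=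
      { (φ m).commRingCatIsoToRingEquiv with
        map_smul' := fun r x => by
          show (φ m).hom (Amitsur.hd R A m r * x) = (h m).left.appTop r * (φ m).hom x
          rw [map_mul]
          congr 1
          exact ConcreteCategory.congr_hom (hhd m) r }
    let β : Γ((E.P m).left, ⊤) ⊗[R] M →+ asc F (E.P m) :=
      TensorProduct.liftAddHom
        { toFun := fun b =>
            { toFun := fun s => b • resA F (h m) s
              map_zero' := by rw [map_zero, smul_zero]
              map_add' := fun s t => by rw [map_add, smul_add] }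
          map_zero' := AddMonoidHom.ext fun s => zero_smul _ _
          map_add' := fun a b => AddMonoidHom.ext fun s => add_smul _ _ _ }
        (fun r b s => by
          show ((h m).left.appTop r * b) • resA F (h m) s = b • resA F (h m) (r • s)
          rw [resA_smul, ← mul_smul, mul_comm])
    have hβ : Function.Bijective β := bijective_smul_resA F (h m) β fun b s => rfl
    refine ⟨((TensorProduct.congr φl (LinearEquiv.refl R M)).toAddEquiv.trans (AddEquiv.ofBijective β hβ)).trans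
      (e _).symm, fun x s => (e _).apply_symm_apply _⟩
  choose Φ hΦ using key
  have hd : ∀ m (x : Amitsur.C R A m ⊗[R] M), E.d G.obj m (Φ m x) = Φ (m + 1) (Amitsur.dM R A M m x) := by
    intro m x
    induction x using TensorProduct.induction_on with
    | zero => simp
    | add a b ha hb => simp only [map_add, ha, hb]
    | tmul x s =>
      rw [FibPow.d_apply, Amitsur.dM_apply_tmul, map_sum]
      refine Finset.sum_congr rfl fun i _ => ?_
      rw [map_zsmul]
      refine congrArg _ ((e _).injective ?_)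
      rw [he, hΦ, resA_smul, hcomp, hh, hΦ]
      exact congrArg (· • _) (ConcreteCategory.congr_hom (hδ m i) x).symm
  obtain ⟨x, rfl⟩ := (Φ (n + 1)).surjective c
  rw [hd] at hc
  have hdx : Amitsur.dM R A M (n + 1) x = 0 := (Φ (n + 2)).injective (hc.trans (map_zero _).symm)
  obtain ⟨w, hw⟩ := Amitsur.exact_dM R A M n x hdx
  exact ⟨Φ n w, by rw [hd, hw]⟩

end GrothLib.EtQc13
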