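import Groth.Agent.Lib.EtQc13.Assoc
import Groth.Agent.Lib.EtQc13.ZarComp
import Groth.Agent.Lib.Cohom.DerivedClass

/-!
# Zariski and étale cohomology of quasi-coherent modules
-/

set_option autoImplicit false
set_option backward.isDefEq.respectTransparency false
set_option backward.isDefEq.respectTransparency.types false

universe u

open CategoryTheory CategoryTheory.Limits CategoryTheory.Abelian AlgebraicGeometry Opposite TopologicalSpace

noncomputable section

namespace GrothLib.EtQc13

variable {X : Scheme.{u}}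

/-- Acyclicity is invariant under isomorphisms. -/
theorem acyclic_of_iso {F F' : EtCoh.Ab X} (α : F ≅ F') (hF : (affClass X).Acyclic F) :
    (affClass X).Acyclic F' := by
  intro T Y f E hf n c hc
  have hd : ∀ {A B : EtCoh.Ab X} (ρ : A ⟶ B) m (x : A.obj.obj (op (E.P m))),
      E.d B.obj m (ρ.hom.app _ x) = ρ.hom.app _ (E.d A.obj m x) := fun ρ m x => by
    rw [FibPow.d_apply, FibPow.d_apply, map_sum]
    refine Finset.sum_congr rfl fun i _ => ?_
    rw [map_zsmul]
    exact congrArg _ (NatTrans.naturality_apply ρ.hom (E.δ m i).op x).symm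
  have e : ∀ (U : X.Etale) (x : F'.obj.obj (op U)), α.hom.hom.app (op U) (α.inv.hom.app (op U) x) = x := fun U x =>
    congr($(congrArg (fun r : F' ⟶ F' => r.hom.app (op U)) α.inv_hom_id) x)
  obtain ⟨w, hw⟩ := hF f E hf n (α.inv.hom.app _ c) (by rw [hd, hc, map_zero])
  exact ⟨α.hom.hom.app _ w, by rw [hd, hw, e]⟩

/-- Restriction to the Zariski site is exact on sheaves acyclic for affine covers. -/
theorem isZero_rightDerived_resZar [EtZar.ZarCont X] [(EtZar.resZar X).Additive] (G : EtCoh.Ab X)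
    (hG : (affClass X).Acyclic G) (n : ℕ) : IsZero (((EtZar.resZar X).rightDerived (n + 1)).obj G) := by
  refine DimShift.isZero_rightDerived_of_class (EtZar.resZar X) (affClass X).Acyclic (fun α h => acyclic_of_iso α h)
    (fun S hS hI hA => ⟨(affClass X).acyclic_X₃ hS hA (haveI := hI; (affClass X).acyclic_of_injective _),
      shortExact_map_of_epi _ hS ?_⟩) G hG n
  haveI : Sheaf.IsLocallySurjective ((EtZar.resZar X).map S.g) := ⟨fun {U} s x hx => by
    obtain ⟨W, hW, hxW, hWU⟩ := exists_isAffineOpen_mem_and_subset (X := X) (U := U) (x := x) hx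
    obtain ⟨r, hr⟩ := (affClass X).surjective hS hA (Y := (EtZar.zarToEt X).obj W)
      (show IsAffine W.toScheme from hW) (((EtZar.resZar X).obj S.X₃).obj.map (homOfLE hWU).op s)
    exact ⟨W, homOfLE hWU, ⟨r, hr⟩, hxW⟩⟩
  exact Sheaf.epi_of_isLocallySurjective _

/-- Sections of a module on an open are the sections of its inverse image. -/
theorem bijective_pullSec_ι (F : X.Modules) (W : X.Opens) (h : ⊤ ≤ W.ι ⁻¹ᵁ W) :
    Function.Bijective (QCoh.pullSec W.ι F h) := by
  have hu := Adjunction.unit_leftAdjointUniq_hom_app (Scheme.Modules.restrictAdjunction W.ι)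
    (Scheme.Modules.pullbackPushforwardAdjunction W.ι) F
  let κ := ((Scheme.Modules.restrictFunctorIsoPullback W.ι).hom.app F)
  have e : (QCoh.pullSec W.ι F h : _ → _) = fun s =>
      κ.app ⊤ (F.presheaf.map (homOfLE (show W.ι ''ᵁ (⊤ : W.toScheme.Opens) ≤ W from (W.ι_image_top).le)).op s) := by
    funext s
    show ((Scheme.Modules.pullback W.ι).obj F).presheaf.map _
      (((Scheme.Modules.pullbackPushforwardAdjunction W.ι).unit.app F).app W s) = _
    rw [← hu]
    show ((Scheme.Modules.pullback W.ι).obj F).presheaf.map _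
      (κ.app (W.ι ⁻¹ᵁ W) (((Scheme.Modules.restrictAdjunction W.ι).unit.app F).app W s)) = _
    refine (app_map κ (homOfLE h) _).symm.trans (congrArg _ ?_)
    show F.presheaf.map (W.ι.opensFunctor.map (homOfLE h)).op
      (F.presheaf.map (homOfLE (W.ι.image_preimage_le W)).op s) = _
    exact (Functor.map_comp_apply F.presheaf (homOfLE (W.ι.image_preimage_le W)).op
      (W.ι.opensFunctor.map (homOfLE h)).op s).symm
  rw [e]
  haveI : IsIso (F.presheaf.map (homOfLE (show W.ι ''ᵁ (⊤ : W.toScheme.Opens) ≤ W from (W.ι_image_top).le)).op) := by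
    haveI : IsIso (homOfLE (show W.ι ''ᵁ (⊤ : W.toScheme.Opens) ≤ W from (W.ι_image_top).le)) :=
      ⟨homOfLE (W.ι_image_top).ge, Subsingleton.elim _ _, Subsingleton.elim _ _⟩
    infer_instance
  exact (ConcreteCategory.bijective_of_isIso (κ.app ⊤)).comp (ConcreteCategory.bijective_of_isIso _)

/-- The associated sheaf on the opens is the module. -/
theorem exists_iso_resUp (F : X.Modules) {G : EtCoh.Ab X} (hG : EtAssoc.IsAssoc F G) :
    Nonempty ((resUp X).obj G ≅ (liftUp X).obj (Coh.toAb F)) := by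
  obtain ⟨e, he⟩ := hG
  have hU : ∀ W : X.Opens, (⊤ : W.toScheme.Opens) ≤ W.ι ⁻¹ᵁ W := fun W x _ => x.2
  let ε : ∀ W : X.Opens, Γ(F, W) ≃+ asc F ((EtZar.zarToEt X).obj W) := fun W =>
    AddEquiv.ofBijective (QCoh.pullSec W.ι F (hU W)) (bijective_pullSec_ι F W (hU W))
  let c : ∀ U : (Opens (upTop X))ᵒᵖ, ((resUp X).obj G).obj.obj U ≅ ((liftUp X).obj (Coh.toAb F)).obj.obj U := fun U =>
    AddEquiv.toAddCommGrpIso ((e ((EtZar.zarToEt X).obj ((downOpens X).obj U.unop))).trans
      ((AddEquiv.ulift.trans (ε ((downOpens X).obj U.unop)).symm).trans AddEquiv.ulift.symm))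
  refine ⟨(fullyFaithfulSheafToPresheaf _ _).preimageIso (NatIso.ofComponents c fun {U V} i => ?_)⟩
  ext z
  refine ULift.ext _ _ ?_
  let W := (downOpens X).obj U.unop
  let W' := (downOpens X).obj V.unop
  let j := (downOpens X).map i.unop
  show (ε W').symm (e _ (G.obj.map ((EtZar.zarToEt X).map j).op z)).down =
    F.presheaf.map j.op ((ε W).symm (e _ z).down)
  rw [AddEquiv.symm_apply_eq, he]
  obtain ⟨t, ht⟩ := (ε W).surjective (e _ z).down
  rw [show (ε W).symm (e _ z).down = t from (AddEquiv.symm_apply_eq _).2 ht.symm]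
  refine (congrArg (resA F ((EtZar.zarToEt X).map j)) ht.symm).trans ?_
  show resA F ((EtZar.zarToEt X).map j) (QCoh.pullSec W.ι F (hU W) t) = QCoh.pullSec W'.ι F (hU W') (F.presheaf.map j.op t)
  have h' : (⊤ : W'.toScheme.Opens) ≤ W'.ι ⁻¹ᵁ W := fun x _ => j.le x.2
  refine (resA_pullSec F ((EtZar.zarToEt X).map j) (hU W) h' t).trans ?_
  show _ = ((Scheme.Modules.pullback W'.ι).obj F).presheaf.map _ _
  refine Eq.trans ?_ (congrArg _ (app_map ((Scheme.Modules.pullbackPushforwardAdjunction W'.ι).unit.app F) j t).symm)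
  exact Functor.map_comp_apply ((Scheme.Modules.pullback W'.ι).obj F).presheaf _ _ _

/-- Étale and Zariski cohomology of quasi-coherent modules agree. -/
theorem nonempty_H_assoc (F : X.Modules) [F.IsQuasicoherent] {G : EtCoh.Ab X} (hG : EtAssoc.IsAssoc F G) (q : ℕ) :
    Nonempty (EtCoh.H X G q ≃+ Coh.HH X F q) := by
  obtain ⟨α⟩ := exists_iso_resUp F hG
  obtain ⟨e₁⟩ := nonempty_H_resUp X G (acyclic_of_isAssoc F hG) q
  obtain ⟨e₂⟩ := nonempty_H_liftUp X (Coh.toAb F) q
  exact ⟨(e₁.trans ((Sheaf.functorH _ q).mapIso α).addCommGroupIsoToAddEquiv).trans e₂.symm⟩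

end GrothLib.EtQc13
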