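import Groth.Agent.Lib.EtQc13.AssocRes

/-!
# Functoriality of the restriction maps of the associated étale presheaf
-/

set_option autoImplicit false
set_option backward.isDefEq.respectTransparency false
set_option backward.isDefEq.respectTransparency.types false

universe u

open CategoryTheory CategoryTheory.Limits AlgebraicGeometry Opposite TopologicalSpace
open GrothLib.QCoh (pullSec)

noncomputable section

namespace GrothLib.EtQc13

/-- A morphism out of an inverse image is determined on pulled back sections. -/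
theorem hom_ext_pullback {X Y : Scheme.{u}} (f : X ⟶ Y) {M : Y.Modules} {N : X.Modules}
    (a b : (Scheme.Modules.pullback f).obj M ⟶ N)
    (h : ∀ (V : Y.Opens) (t : Γ(M, V)),
      a.app (f ⁻¹ᵁ V) (((Scheme.Modules.pullbackPushforwardAdjunction f).unit.app M).app V t) =
        b.app (f ⁻¹ᵁ V) (((Scheme.Modules.pullbackPushforwardAdjunction f).unit.app M).app V t)) : a = b := by
  refine ((Scheme.Modules.pullbackPushforwardAdjunction f).homEquiv _ _).injective ?_
  rw [Adjunction.homEquiv_unit, Adjunction.homEquiv_unit]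
  refine Scheme.Modules.hom_ext _ _ (fun V => ?_)
  exact ConcreteCategory.hom_ext _ _ (h V)

variable {S : Scheme.{u}} (F : S.Modules)

/-- The inverse image of `F` on an étale scheme. -/
abbrev mod (U : S.Etale) : U.left.Modules := (Scheme.Modules.pullback U.hom).obj F

/-- The restriction along a morphism as a morphism of modules. -/
def resHom {U U' : S.Etale} (g : U' ⟶ U) : mod F U ⟶ (Scheme.Modules.pushforward g.left).obj (mod F U') :=
  (Scheme.Modules.pullbackPushforwardAdjunction g.left).unit.app (mod F U) ≫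
    (Scheme.Modules.pushforward g.left).map (EtAssoc.step2a F g)

/-- The restriction maps on all opens. -/
def resP {U U' : S.Etale} (g : U' ⟶ U) {Q : U.left.Opens} {P : U'.left.Opens} (e : P ≤ g.left ⁻¹ᵁ Q) :
    Γ(mod F U, Q) →+ Γ(mod F U', P) :=
  ((mod F U').presheaf.map (homOfLE e).op).hom.comp ((resHom F g).app Q).hom

theorem resP_apply {U U' : S.Etale} (g : U' ⟶ U) {Q : U.left.Opens} {P : U'.left.Opens} (e : P ≤ g.left ⁻¹ᵁ Q)
    (s : Γ(mod F U, Q)) :
    resP F g e s = (EtAssoc.step2a F g).app P (pullSec g.left (mod F U) e s) :=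
  (app_map (EtAssoc.step2a F g) (homOfLE e) _).symm

theorem resA_eq_resP {U U' : S.Etale} (g : U' ⟶ U) (e : (⊤ : U'.left.Opens) ≤ g.left ⁻¹ᵁ ⊤) (s : asc F U) :
    resA F g s = resP F g e s :=
  (resA_eq F g s).trans (resP_apply F g e s).symm

theorem map_resP {U U' : S.Etale} (g : U' ⟶ U) {Q : U.left.Opens} {P P' : U'.left.Opens} (e : P ≤ g.left ⁻¹ᵁ Q)
    (i : P' ≤ P) (s : Γ(mod F U, Q)) :
    (mod F U').presheaf.map (homOfLE i).op (resP F g e s) = resP F g (i.trans e) s :=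
  (Functor.map_comp_apply (mod F U').presheaf (homOfLE e).op (homOfLE i).op _).symm

theorem resP_map {U U' : S.Etale} (g : U' ⟶ U) {Q Q' : U.left.Opens} {P : U'.left.Opens} (j : Q' ≤ Q)
    (e : P ≤ g.left ⁻¹ᵁ Q') (e' : P ≤ g.left ⁻¹ᵁ Q) (s : Γ(mod F U, Q)) :
    resP F g e ((mod F U).presheaf.map (homOfLE j).op s) = resP F g e' s := by
  refine (congrArg ((mod F U').presheaf.map (homOfLE e).op) (app_map (resHom F g) (homOfLE j) s)).trans ?_
  exact (Functor.map_comp_apply (mod F U').presheaf ((Opens.map g.left.base).map (homOfLE j)).op (homOfLE e).op _).symm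

theorem resP_congr {U U' : S.Etale} {g g' : U' ⟶ U} (h : g = g') {Q : U.left.Opens} {P : U'.left.Opens}
    (e : P ≤ g.left ⁻¹ᵁ Q) (e' : P ≤ g'.left ⁻¹ᵁ Q) (s : Γ(mod F U, Q)) :
    resP F g e s = resP F g' e' s := by
  subst h
  rfl

/-- Restriction of pulled back sections. -/
theorem resP_pullSec {U U' : S.Etale} (g : U' ⟶ U) {V : S.Opens} {Q : U.left.Opens} {P : U'.left.Opens}
    (h : Q ≤ U.hom ⁻¹ᵁ V) (e : P ≤ g.left ⁻¹ᵁ Q) (h' : P ≤ U'.hom ⁻¹ᵁ V) (t : Γ(F, V)) :
    resP F g e (pullSec U.hom F h t) = pullSec U'.hom F h' t := by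
  rw [resP_apply]
  have hle : P ≤ (g.left ≫ U.hom) ⁻¹ᵁ V := fun x hx => h (e hx)
  refine Eq.trans ?_ (eqToHom_pullSec (Over.w g.hom) F hle h' t)
  exact congrArg ((eqToHom (congrArg (fun k => (Scheme.Modules.pullback k).obj F) (Over.w g.hom))).app P)
    (pullSec_pullSec g.left U.hom F h e hle t)

theorem resP_rfl {U U' : S.Etale} (g : U' ⟶ U) {Q : U.left.Opens} (s : Γ(mod F U, Q)) :
    resP F g (le_refl (g.left ⁻¹ᵁ Q)) s = (resHom F g).app Q s := by
  show (mod F U').presheaf.map (homOfLE (le_refl (g.left ⁻¹ᵁ Q))).op _ = _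
  rw [show (homOfLE (le_refl (g.left ⁻¹ᵁ Q))).op = 𝟙 _ from rfl, CategoryTheory.Functor.map_id]
  rfl

/-- Composition of restriction maps. -/
theorem resP_resP {U U' U'' : S.Etale} (g : U' ⟶ U) (g' : U'' ⟶ U') {Q : U.left.Opens} {P : U'.left.Opens}
    {R : U''.left.Opens} (e : P ≤ g.left ⁻¹ᵁ Q) (e' : R ≤ g'.left ⁻¹ᵁ P) (e'' : R ≤ (g' ≫ g).left ⁻¹ᵁ Q)
    (s : Γ(mod F U, Q)) : resP F g' e' (resP F g e s) = resP F (g' ≫ g) e'' s := by
  let A : mod F U ⟶ (Scheme.Modules.pushforward (g' ≫ g).left).obj (mod F U'') :=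
    resHom F g ≫ (Scheme.Modules.pushforward g.left).map (resHom F g') ≫
      (Scheme.Modules.pushforwardComp g'.left g.left).hom.app (mod F U'')
  have hA : A = resHom F (g' ≫ g) := by
    refine hom_ext_pullback U.hom _ _ fun V t => ?_
    let t₁ : Γ(mod F U, U.hom ⁻¹ᵁ V) := ((Scheme.Modules.pullbackPushforwardAdjunction U.hom).unit.app F).app V t
    have h0 : pullSec U.hom F (U := V) (P := U.hom ⁻¹ᵁ V) le_rfl t = t₁ :=
      congr($((mod F U).presheaf.map_id (op (U.hom ⁻¹ᵁ V))) t₁)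
    have hU' : g.left ⁻¹ᵁ (U.hom ⁻¹ᵁ V) ≤ U'.hom ⁻¹ᵁ V := by
      rw [← Scheme.Hom.comp_preimage, show g.left ≫ U.hom = U'.hom from Over.w g.hom]
    have hU'' : (g' ≫ g).left ⁻¹ᵁ (U.hom ⁻¹ᵁ V) ≤ U''.hom ⁻¹ᵁ V := by
      rw [← Scheme.Hom.comp_preimage, show (g' ≫ g).left ≫ U.hom = U''.hom from Over.w (g' ≫ g).hom]
    show (resHom F g').app (g.left ⁻¹ᵁ (U.hom ⁻¹ᵁ V)) ((resHom F g).app (U.hom ⁻¹ᵁ V) t₁) =
      (resHom F (g' ≫ g)).app (U.hom ⁻¹ᵁ V) t₁
    rw [← resP_rfl F g' (Q := g.left ⁻¹ᵁ (U.hom ⁻¹ᵁ V)), ← resP_rfl F g (Q := U.hom ⁻¹ᵁ V),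
      ← resP_rfl F (g' ≫ g) (Q := U.hom ⁻¹ᵁ V), ← h0]
    rw [resP_pullSec F g le_rfl le_rfl hU' t, resP_pullSec F (g' ≫ g) le_rfl le_rfl hU'' t]
    exact resP_pullSec F g' hU' le_rfl hU'' t
  show (mod F U'').presheaf.map (homOfLE e').op
    ((resHom F g').app P ((mod F U').presheaf.map (homOfLE e).op ((resHom F g).app Q s))) = _
  refine (congrArg ((mod F U'').presheaf.map (homOfLE e').op) (app_map (resHom F g') (homOfLE e) _)).trans ?_
  refine (Functor.map_comp_apply (mod F U'').presheaf ((Opens.map g'.left.base).map (homOfLE e)).op (homOfLE e').op _).symm.trans ?_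
  exact congrArg ((mod F U'').presheaf.map (homOfLE e'').op) (congr($(congrArg (fun k => Scheme.Modules.Hom.app k Q) hA) s))

theorem resA_comp {U U' U'' : S.Etale} (g : U' ⟶ U) (g' : U'' ⟶ U') (s : asc F U) :
    resA F g' (resA F g s) = resA F (g' ≫ g) s := by
  rw [resA_eq_resP F g (fun _ _ => trivial), resA_eq_resP F g' (fun _ _ => trivial),
    resA_eq_resP F (g' ≫ g) (fun _ _ => trivial)]
  exact resP_resP F g g' _ _ _ s

theorem resA_id (U : S.Etale) (s : asc F U) : resA F (𝟙 U) s = s := by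
  have h : resHom F (𝟙 U) = (Scheme.Modules.pushforwardId U.left).inv.app (mod F U) := by
    refine hom_ext_pullback U.hom _ _ fun V t => ?_
    let t₁ : Γ(mod F U, U.hom ⁻¹ᵁ V) := ((Scheme.Modules.pullbackPushforwardAdjunction U.hom).unit.app F).app V t
    have h0 : pullSec U.hom F (U := V) (P := U.hom ⁻¹ᵁ V) le_rfl t = t₁ :=
      congr($((mod F U).presheaf.map_id (op (U.hom ⁻¹ᵁ V))) t₁)
    have h2 : resP F (𝟙 U) (Q := U.hom ⁻¹ᵁ V) (P := U.hom ⁻¹ᵁ V) le_rfl t₁ = (resHom F (𝟙 U)).app (U.hom ⁻¹ᵁ V) t₁ :=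
      congr($((mod F U).presheaf.map_id _) _)
    show (resHom F (𝟙 U)).app (U.hom ⁻¹ᵁ V) t₁ = t₁
    rw [← h2, ← h0]
    exact resP_pullSec F (𝟙 U) le_rfl le_rfl le_rfl t
  rw [resA_eq_resP F (𝟙 U) (fun _ _ => trivial)]
  show (mod F U).presheaf.map _ ((resHom F (𝟙 U)).app ⊤ s) = s
  rw [h]
  exact congr($((mod F U).presheaf.map_id (op ⊤)) s)

end GrothLib.EtQc13
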