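import Groth.Agent.Lib.QCoh.PullbackSections
import Groth.Prelude.Def_EtAssoc2

/-!
# Restriction maps of the étale sheaf associated to a quasi-coherent module
-/

set_option autoImplicit false
set_option backward.isDefEq.respectTransparency false
set_option backward.isDefEq.respectTransparency.types false

universe u

open CategoryTheory CategoryTheory.Limits AlgebraicGeometry Opposite TopologicalSpace TensorProduct
open GrothLib.QCoh (pullSec sectionsMap)

noncomputable section

namespace GrothLib.EtQc13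

variable {S : Scheme.{u}} (F : S.Modules)

/-- The sections of the inverse image of `F` on an étale scheme. -/
abbrev asc (U : S.Etale) : Type u := Γ((Scheme.Modules.pullback U.hom).obj F, ⊤)

/-- The restriction maps. -/
def resA {U U' : S.Etale} (g : U' ⟶ U) : asc F U →+ asc F U' := (EtAssoc.resMap F g).hom

theorem resA_eq {U U' : S.Etale} (g : U' ⟶ U) (s : asc F U) :
    resA F g s = (EtAssoc.step2a F g).app ⊤
      (pullSec g.left ((Scheme.Modules.pullback U.hom).obj F) (U := ⊤) (P := ⊤) (fun _ _ => trivial) s) := rfl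

theorem resA_smul {U U' : S.Etale} (g : U' ⟶ U) (a : Γ(U.left, ⊤)) (s : asc F U) :
    resA F g (a • s) = (g.left.appTop a : Γ(U'.left, ⊤)) • resA F g s := by
  rw [resA_eq, resA_eq, QCoh.pullSec_smul, Scheme.Modules.Hom.app_smul]
  congr 2
  simp [Scheme.Hom.appLE, Scheme.Hom.appTop]

/-- Two step inverse images of sections. -/
theorem pullbackComp_hom_pullSec {X Y Z : Scheme.{u}} (f : X ⟶ Y) (g : Y ⟶ Z) (M : Z.Modules) (U : Z.Opens)
    (t : Γ(M, U)) :
    ((Scheme.Modules.pullbackComp f g).hom.app M).app (f ⁻¹ᵁ (g ⁻¹ᵁ U))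
        (((Scheme.Modules.pullbackPushforwardAdjunction f).unit.app ((Scheme.Modules.pullback g).obj M)).app (g ⁻¹ᵁ U)
          (((Scheme.Modules.pullbackPushforwardAdjunction g).unit.app M).app U t)) =
      ((Scheme.Modules.pullbackPushforwardAdjunction (f ≫ g)).unit.app M).app U t := by
  have h := unit_conjugateEquiv
    ((Scheme.Modules.pullbackPushforwardAdjunction g).comp (Scheme.Modules.pullbackPushforwardAdjunction f))
    (Scheme.Modules.pullbackPushforwardAdjunction (f ≫ g)) (Scheme.Modules.pullbackComp f g).inv M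
  rw [Scheme.Modules.conjugateEquiv_pullbackComp_inv] at h
  refine (congrArg (((Scheme.Modules.pullbackComp f g).hom.app M).app (f ⁻¹ᵁ (g ⁻¹ᵁ U))) (congr($(h).app U t) :)).trans ?_
  exact congr($((Scheme.Modules.pullbackComp f g).inv_hom_id_app M).app _ _)

theorem app_map {X : Scheme.{u}} {A B : X.Modules} (c : A ⟶ B) {V W : X.Opens} (i : W ⟶ V) (x : Γ(A, V)) :
    c.app W (A.presheaf.map i.op x) = B.presheaf.map i.op (c.app V x) :=
  congr($((Scheme.Modules.Hom.mapPresheaf c).naturality i.op) x)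

theorem eqToHom_pullSec {X Y : Scheme.{u}} {f g : X ⟶ Y} (e : f = g) (M : Y.Modules) {V : Y.Opens} {P : X.Opens}
    (h : P ≤ f ⁻¹ᵁ V) (h' : P ≤ g ⁻¹ᵁ V) (t : Γ(M, V)) :
    (eqToHom (congrArg (fun k => (Scheme.Modules.pullback k).obj M) e)).app P (pullSec f M h t) =
      pullSec g M h' t := by
  subst e
  rfl

/-- Iterated inverse images of sections. -/
theorem pullSec_pullSec {X Y Z : Scheme.{u}} (f : X ⟶ Y) (g : Y ⟶ Z) (M : Z.Modules) {V : Z.Opens} {Q : Y.Opens}
    {P : X.Opens} (e₁ : Q ≤ g ⁻¹ᵁ V) (e₂ : P ≤ f ⁻¹ᵁ Q) (e₃ : P ≤ (f ≫ g) ⁻¹ᵁ V) (t : Γ(M, V)) :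
    ((Scheme.Modules.pullbackComp f g).hom.app M).app P
        (pullSec f ((Scheme.Modules.pullback g).obj M) e₂ (pullSec g M e₁ t)) =
      pullSec (f ≫ g) M e₃ t := by
  let N := (Scheme.Modules.pullback g).obj M
  let R := (Scheme.Modules.pullback f).obj N
  let t₁ : Γ(N, g ⁻¹ᵁ V) := ((Scheme.Modules.pullbackPushforwardAdjunction g).unit.app M).app V t
  let t₂ := ((Scheme.Modules.pullbackPushforwardAdjunction f).unit.app N).app (g ⁻¹ᵁ V) t₁
  have hle : P ≤ f ⁻¹ᵁ (g ⁻¹ᵁ V) := e₃
  have e : pullSec f N e₂ (pullSec g M e₁ t) = R.presheaf.map (homOfLE hle).op t₂ := by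
    refine (congrArg (R.presheaf.map (homOfLE e₂).op)
      (app_map ((Scheme.Modules.pullbackPushforwardAdjunction f).unit.app N) (homOfLE e₁) t₁)).trans ?_
    exact (Functor.map_comp_apply R.presheaf ((Opens.map f.base).map (homOfLE e₁)).op (homOfLE e₂).op t₂).symm
  rw [e]
  refine (app_map ((Scheme.Modules.pullbackComp f g).hom.app M) (homOfLE hle) t₂).trans ?_
  exact congrArg _ (pullbackComp_hom_pullSec f g M V t)

/-- Restriction maps and inverse images of sections. -/
theorem resA_pullSec {U U' : S.Etale} (g : U' ⟶ U) {V : S.Opens} (h : ⊤ ≤ U.hom ⁻¹ᵁ V) (h' : ⊤ ≤ U'.hom ⁻¹ᵁ V)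
    (t : Γ(F, V)) : resA F g (pullSec U.hom F h t) = pullSec U'.hom F h' t := by
  rw [resA_eq]
  have hle : (⊤ : U'.left.Opens) ≤ (g.left ≫ U.hom) ⁻¹ᵁ V := fun x _ => h trivial
  refine Eq.trans ?_ (eqToHom_pullSec (Over.w g.hom) F hle h' t)
  exact congrArg ((eqToHom (congrArg (fun k => (Scheme.Modules.pullback k).obj F) (Over.w g.hom))).app (⊤ : U'.left.Opens))
    (pullSec_pullSec g.left U.hom F h (fun _ _ => trivial) hle t)

instance isIso_step2a {U U' : S.Etale} (g : U' ⟶ U) : IsIso (EtAssoc.step2a F g) := by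
  unfold EtAssoc.step2a
  infer_instance

/-- Base change to an affine étale scheme over an affine one. -/
theorem bijective_smul_resA [F.IsQuasicoherent] {Y U : S.Etale} (g : U ⟶ Y) [IsAffine Y.left] [IsAffine U.left] :
    letI : Algebra Γ(Y.left, ⊤) Γ(U.left, ⊤) := (g.left.appTop).hom.toAlgebra
    ∀ (Φ : Γ(U.left, ⊤) ⊗[Γ(Y.left, ⊤)] asc F Y →+ asc F U),
      (∀ (b : Γ(U.left, ⊤)) (s : asc F Y), Φ (b ⊗ₜ s) = b • resA F g s) → Function.Bijective Φ := by
  letI : Algebra Γ(Y.left, ⊤) Γ(U.left, ⊤) := (g.left.appTop).hom.toAlgebra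
  intro Φ hΦ
  let M := (Scheme.Modules.pullback Y.hom).obj F
  haveI : M.IsQuasicoherent := FittSheaf.isQuasicoherent_pullback Y.hom F
  have halg : algebraMap Γ(Y.left, ⊤) Γ(U.left, ⊤) = (g.left.appLE ⊤ ⊤ (fun _ _ => trivial)).hom := by
    show g.left.appTop.hom = _
    simp [Scheme.Hom.appLE, Scheme.Hom.appTop]
  let θ := sectionsMap g.left M (U := ⊤) (P := ⊤) (fun _ _ => trivial) halg
  have hθ : Function.Bijective θ := QCoh.bijective_sectionsMap g.left M _ halg (isAffineOpen_top _) (isAffineOpen_top _)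
  have h2 : Function.Bijective ((EtAssoc.step2a F g).app (⊤ : U.left.Opens)) := ConcreteCategory.bijective_of_isIso _
  have : (Φ : _ → _) = fun z => (EtAssoc.step2a F g).app (⊤ : U.left.Opens) (θ z) := funext fun z => by
    induction z using TensorProduct.induction_on with
    | zero => simp
    | add a b ha hb => rw [map_add, ha, hb, map_add, map_add]
    | tmul b s =>
      rw [hΦ]
      show _ = (EtAssoc.step2a F g).app ⊤ (b • pullSec g.left M (U := ⊤) (P := ⊤) (fun _ _ => trivial) s)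
      rw [Scheme.Modules.Hom.app_smul, ← resA_eq]
  rw [this]
  exact h2.comp hθ

end GrothLib.EtQc13
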