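import Groth.Agent.Lib.EtQc13.Assoc
import Groth.Agent.Lib.EtBasicB.SheafCriterion
import Mathlib.Topology.Sheaves.SheafCondition.UniqueGluing

/-!
# Étale sheaves from systems of Zariski sheaves
-/

set_option autoImplicit false
set_option backward.isDefEq.respectTransparency false
set_option backward.isDefEq.respectTransparency.types false

universe u w

open CategoryTheory CategoryTheory.Limits AlgebraicGeometry Opposite TopologicalSpace Simplicial TensorProduct
open GrothLib.EtBasicB (objOver homOver)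

noncomputable section

namespace GrothLib.EtQc13

variable {S : Scheme.{u}}

/-- A compatible system of Zariski sheaves on the étale schemes over `S`, with descent to opens. -/
structure ZarSystem (S : Scheme.{u}) where
  /-- the sheaf on an étale scheme -/
  M : ∀ U : S.Etale, TopCat.Sheaf AddCommGrpCat.{u} U.left.toTopCat
  /-- the restriction along a morphism -/
  res : ∀ {U U' : S.Etale} (g : U' ⟶ U) {Q : U.left.Opens} {P : U'.left.Opens}, P ≤ g.left ⁻¹ᵁ Q →
    ((M U).obj.obj (op Q) →+ (M U').obj.obj (op P))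
  res_map : ∀ {U U' : S.Etale} (g : U' ⟶ U) {Q Q' : U.left.Opens} {P : U'.left.Opens} (j : Q' ≤ Q)
    (e : P ≤ g.left ⁻¹ᵁ Q') (e' : P ≤ g.left ⁻¹ᵁ Q) (s : (M U).obj.obj (op Q)),
    res g e ((M U).obj.map (homOfLE j).op s) = res g e' s
  res_res : ∀ {U U' U'' : S.Etale} (g : U' ⟶ U) (g' : U'' ⟶ U') {Q : U.left.Opens} {P : U'.left.Opens}
    {R : U''.left.Opens} (e : P ≤ g.left ⁻¹ᵁ Q) (e' : R ≤ g'.left ⁻¹ᵁ P) (e'' : R ≤ (g' ≫ g).left ⁻¹ᵁ Q)
    (s : (M U).obj.obj (op Q)), res g' e' (res g e s) = res (g' ≫ g) e'' s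
  res_id : ∀ (U : S.Etale) (e : (⊤ : U.left.Opens) ≤ (𝟙 U : U ⟶ U).left ⁻¹ᵁ ⊤) (s : (M U).obj.obj (op ⊤)),
    res (𝟙 U) e s = s
  bij : ∀ (U : S.Etale) (W : U.left.Opens)
    (e : (⊤ : (objOver W.ι : S.Etale).left.Opens) ≤ (homOver W.ι : objOver W.ι ⟶ U).left ⁻¹ᵁ W),
    Function.Bijective (res (homOver W.ι : objOver W.ι ⟶ U) e)

variable (D : ZarSystem S)

/-- The presheaf of global sections of a system. -/
def ZarSystem.pre : S.Etaleᵒᵖ ⥤ AddCommGrpCat.{u + 1} where
  obj U := AddCommGrpCat.of (ULift.{u + 1} ((D.M U.unop).obj.obj (op ⊤)))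
  map g := AddCommGrpCat.ofHom (AddEquiv.ulift.symm.toAddMonoidHom.comp
    ((D.res g.unop (Q := ⊤) (P := ⊤) (fun _ _ => trivial)).comp AddEquiv.ulift.toAddMonoidHom))
  map_id U := by
    ext z
    exact D.res_id U.unop _ z.down
  map_comp g g' := by
    ext z
    exact (D.res_res g.unop g'.unop _ _ _ z.down).symm

theorem ZarSystem.pre_map {U U' : S.Etale} (g : U' ⟶ U) (z : (D.pre ⋙ forget AddCommGrpCat).obj (op U)) :
    ((D.pre ⋙ forget AddCommGrpCat).map g.op z).down = D.res g (Q := ⊤) (P := ⊤) (fun _ _ => trivial) z.down := rfl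

/-- Equalities of restricted sections, unfolded. -/
theorem ZarSystem.res_eq_of_map_eq {U U' T : S.Etale} (g : T ⟶ U) (g' : T ⟶ U')
    (z : (D.pre ⋙ forget AddCommGrpCat).obj (op U)) (z' : (D.pre ⋙ forget AddCommGrpCat).obj (op U'))
    (h : (D.pre ⋙ forget AddCommGrpCat).map g.op z = (D.pre ⋙ forget AddCommGrpCat).map g'.op z') :
    D.res g (Q := ⊤) (P := ⊤) (fun _ _ => trivial) z.down =
      D.res g' (Q := ⊤) (P := ⊤) (fun _ _ => trivial) z'.down :=
  congrArg (fun t : ULift.{u + 1} ((D.M T).obj.obj (op ⊤)) => t.down) h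

theorem ZarSystem.res_eq_of_map_eq' {U T : S.Etale} (g : T ⟶ U)
    (z : (D.pre ⋙ forget AddCommGrpCat).obj (op U)) (z' : (D.pre ⋙ forget AddCommGrpCat).obj (op T))
    (h : (D.pre ⋙ forget AddCommGrpCat).map g.op z = z') :
    D.res g (Q := ⊤) (P := ⊤) (fun _ _ => trivial) z.down = z'.down :=
  congrArg (fun t : ULift.{u + 1} ((D.M T).obj.obj (op ⊤)) => t.down) h

theorem ZarSystem.isSheaf_zar :
    Presieve.IsSheaf (S.smallGrothendieckTopology (P := @IsOpenImmersion)) (D.pre ⋙ forget AddCommGrpCat) := by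
  intro U R hR x hx
  let ι := {W : U.left.Opens // R (homOver W.ι : objOver W.ι ⟶ U)}
  have htop : ∀ W : U.left.Opens, (⊤ : (objOver W.ι : S.Etale).left.Opens) ≤
      (homOver W.ι : objOver W.ι ⟶ U).left ⁻¹ᵁ W := fun W z _ => z.2
  let δ : ∀ W : U.left.Opens,
      (D.M U).obj.obj (op W) ≃+ (D.M (objOver W.ι)).obj.obj (op (⊤ : (objOver W.ι : S.Etale).left.Opens)) := fun W =>
    AddEquiv.ofBijective (D.res (homOver W.ι : objOver W.ι ⟶ U) (htop W)) (D.bij U W _)
  have hres : ∀ (W : U.left.Opens) {T : S.Etale} (h : T ⟶ U) (k : T ⟶ objOver W.ι), k ≫ homOver W.ι = h →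
      ∀ (hT : (⊤ : T.left.Opens) ≤ h.left ⁻¹ᵁ W) (s : (D.M U).obj.obj (op W)),
        D.res k (Q := ⊤) (P := ⊤) (fun _ _ => trivial) (δ W s) = D.res h hT s := by
    intro W T h k hk hT s
    subst hk
    exact D.res_res (homOver W.ι) k (htop W) _ hT s
  let xW : ∀ W : ι, (D.M (objOver W.1.ι)).obj.obj (op ⊤) := fun W => (x (homOver W.1.ι) W.2).down
  let m : ∀ W : ι, (D.M U).obj.obj (op W.1) := fun W => (δ W.1).symm (xW W)
  have hm : ∀ W : ι, δ W.1 (m W) = xW W := fun W => (δ W.1).apply_symm_apply _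
  have hcov : (⊤ : U.left.Opens) ≤ iSup (fun W : ι => W.1) := by
    intro p _
    obtain ⟨V, g, v, hg, hgo, hv⟩ := (EtBasicB.mem_zar_iff R).1 hR p
    let W : U.left.Opens := g.left.opensRange
    let k : objOver W.ι ⟶ V := MorphismProperty.Over.homMk (A := objOver W.ι) (B := V)
      (IsOpenImmersion.lift g.left W.ι (by rintro _ ⟨z, rfl⟩; exact z.2)) (by
        show IsOpenImmersion.lift g.left W.ι _ ≫ V.hom = W.ι ≫ U.hom
        rw [← show g.left ≫ U.hom = V.hom from Over.w g.hom, IsOpenImmersion.lift_fac_assoc]) trivial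
    have hk : k ≫ g = homOver W.ι := MorphismProperty.Over.Hom.ext (IsOpenImmersion.lift_fac _ _ _)
    exact Opens.mem_iSup.2 ⟨⟨W, hk ▸ R.downward_closed hg k⟩, v, hv⟩
  have hincl : ∀ {A B : U.left.Opens} (i : A ≤ B), ∃ k : objOver A.ι ⟶ objOver B.ι, k ≫ homOver B.ι = homOver A.ι :=
    fun {A B} i => ⟨MorphismProperty.Over.homMk (A := objOver A.ι) (B := objOver B.ι) (U.left.homOfLE i) (by
        show U.left.homOfLE i ≫ B.ι ≫ U.hom = A.ι ≫ U.hom
        rw [Scheme.homOfLE_ι_assoc]) trivial,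
      MorphismProperty.Over.Hom.ext (U.left.homOfLE_ι i)⟩
  have hrestr : ∀ (W W' : ι) (i : W'.1 ≤ W.1), (D.M U).obj.map (homOfLE i).op (m W) = m W' := by
    intro W W' i
    obtain ⟨k, hk⟩ := hincl i
    apply (δ W'.1).injective
    rw [hm W']
    show D.res (homOver W'.1.ι) (htop W'.1) _ = _
    rw [D.res_map (homOver W'.1.ι) i (htop W'.1) (fun z _ => i (z : W'.1.toScheme).2),
      ← hres W.1 (homOver W'.1.ι) k hk, hm W]
    exact (D.res_eq_of_map_eq k (𝟙 _) _ _ (hx k (𝟙 _) W.2 W'.2 (by rw [hk, Category.id_comp]))).trans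
      (D.res_id _ _ _)
  have hcomp : TopCat.Presheaf.IsCompatible (D.M U).1 (fun W : ι => W.1) m := by
    intro i j
    have hij : R (homOver (i.1 ⊓ j.1).ι : objOver (i.1 ⊓ j.1).ι ⟶ U) := by
      obtain ⟨k, hk⟩ := hincl (inf_le_left : i.1 ⊓ j.1 ≤ i.1)
      exact hk ▸ R.downward_closed i.2 k
    exact (hrestr i ⟨i.1 ⊓ j.1, hij⟩ inf_le_left).trans (hrestr j ⟨i.1 ⊓ j.1, hij⟩ inf_le_right).symm
  obtain ⟨s, hs, hsu⟩ := (D.M U).existsUnique_gluing' (fun W : ι => W.1) ⊤ (fun W => homOfLE le_top) hcov m hcomp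
  refine ⟨ULift.up s, fun T h hh => ULift.ext _ _ ?_, fun t ht => ?_⟩
  · show D.res h (Q := ⊤) (P := ⊤) (fun _ _ => trivial) s = (x h hh).down
    refine (D.M T).eq_of_locally_eq' (fun W : ι => h.left ⁻¹ᵁ W.1) ⊤ (fun W => homOfLE le_top)
      (fun p _ => by
        obtain ⟨W, hW⟩ := Opens.mem_iSup.1 (hcov (show h.left p ∈ (⊤ : U.left.Opens) from trivial))
        exact Opens.mem_iSup.2 ⟨W, hW⟩) _ _ fun W => ?_
    let Q : T.left.Opens := h.left ⁻¹ᵁ W.1
    let o : objOver Q.ι ⟶ T := homOver Q.ι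
    have hQ : (⊤ : (objOver Q.ι : S.Etale).left.Opens) ≤ o.left ⁻¹ᵁ Q := fun z _ => z.2
    apply (D.bij T Q hQ).1
    show D.res o hQ ((D.M T).obj.map (homOfLE le_top).op _) =
      D.res o hQ ((D.M T).obj.map (homOfLE le_top).op _)
    rw [D.res_map o le_top hQ (fun _ _ => trivial), D.res_map o le_top hQ (fun _ _ => trivial),
      D.res_res h o _ _ (show (⊤ : (objOver Q.ι : S.Etale).left.Opens) ≤ (o ≫ h).left ⁻¹ᵁ ⊤ from fun _ _ => trivial)]
    let k : objOver Q.ι ⟶ objOver W.1.ι := MorphismProperty.Over.homMk (A := objOver Q.ι) (B := objOver W.1.ι)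
      (IsOpenImmersion.lift W.1.ι (Q.ι ≫ h.left) (by
        rintro _ ⟨z, rfl⟩
        exact (Scheme.Opens.range_ι W.1).symm.subset (show h.left (Q.ι z) ∈ (W.1 : Set U.left) from z.2))) (by
        show IsOpenImmersion.lift W.1.ι _ _ ≫ W.1.ι ≫ U.hom = Q.ι ≫ T.hom
        rw [IsOpenImmersion.lift_fac_assoc, Category.assoc, show h.left ≫ U.hom = T.hom from Over.w h.hom]) trivial
    have hk : k ≫ homOver W.1.ι = o ≫ h := MorphismProperty.Over.Hom.ext (IsOpenImmersion.lift_fac _ _ _)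
    have h1 := D.res_eq_of_map_eq o k _ _ (hx o k hh W.2 hk.symm)
    refine Eq.trans ?_ h1.symm
    show D.res (o ≫ h) (Q := ⊤) (P := ⊤) (fun _ _ => trivial) s = D.res k (Q := ⊤) (P := ⊤) (fun _ _ => trivial) (xW W)
    have hT : (⊤ : (objOver Q.ι : S.Etale).left.Opens) ≤ (o ≫ h).left ⁻¹ᵁ W.1 := fun z _ => z.2
    exact (D.res_map (o ≫ h) le_top hT (fun _ _ => trivial) s).symm.trans
      ((congrArg (D.res (o ≫ h) hT) (hs W)).trans ((hres W.1 (o ≫ h) k hk hT (m W)).symm.trans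
        (congrArg (D.res k (Q := ⊤) (P := ⊤) (fun _ _ => trivial)) (hm W))))
  · refine ULift.ext _ _ (hsu t.down fun W => (δ W.1).injective (Eq.trans ?_ (hm W).symm))
    exact (D.res_map (homOver W.1.ι) le_top (htop W.1) (fun _ _ => trivial) t.down).trans
      (D.res_eq_of_map_eq' (homOver W.1.ι) t (x (homOver W.1.ι) W.2) (ht (homOver W.1.ι) W.2))

section Affine

variable {A : S.Etale → Type u} [∀ U, AddCommGroup (A U)] [∀ U : S.Etale, Module Γ(U.left, ⊤) (A U)]
  (res : ∀ {U U' : S.Etale}, (U' ⟶ U) → (A U →+ A U'))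

/-- Descent along affine surjective étale maps for a quasi-coherent system. -/
theorem existsUnique_descent (res_smul : ∀ {U U' : S.Etale} (g : U' ⟶ U) (a : Γ(U.left, ⊤)) (s : A U),
      res g (a • s) = (g.left.appTop a : Γ(U'.left, ⊤)) • res g s)
    (res_comp : ∀ {U U' U'' : S.Etale} (g : U' ⟶ U) (g' : U'' ⟶ U') (s : A U), res g' (res g s) = res (g' ≫ g) s)
    (res_id : ∀ (U : S.Etale) (s : A U), res (𝟙 U) s = s)
    (bij : ∀ {Y U : S.Etale} (g : U ⟶ Y) [IsAffine Y.left] [IsAffine U.left],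
      letI : Algebra Γ(Y.left, ⊤) Γ(U.left, ⊤) := (g.left.appTop).hom.toAlgebra
      ∀ (Φ : Γ(U.left, ⊤) ⊗[Γ(Y.left, ⊤)] A Y →+ A U),
        (∀ (b : Γ(U.left, ⊤)) (s : A Y), Φ (b ⊗ₜ s) = b • res g s) → Function.Bijective Φ)
    {U V : S.Etale} [IsAffine U.left] [IsAffine V.left] (f : V ⟶ U) [Surjective f.left] (y : A V)
    (hy : ∀ {W : S.Etale} (a b : W ⟶ V), a ≫ f = b ≫ f → res a y = res b y) :
    ∃! s : A U, res f s = y := by
  let E := FibPow.ofPullbacks f
  haveI : Etale f.left := GrothLib.ConnFibres.etale_left f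
  letI : Algebra Γ(U.left, ⊤) Γ(V.left, ⊤) := (f.left.appTop).hom.toAlgebra
  haveI : Module.FaithfullyFlat Γ(U.left, ⊤) Γ(V.left, ⊤) := by
    have := (Flat.flat_and_surjective_iff_faithfullyFlat_of_isAffine f.left).1 ⟨inferInstance, inferInstance⟩
    exact this
  let R := Γ(U.left, ⊤)
  let B := Γ(V.left, ⊤)
  obtain ⟨φ, hhd, hδ⟩ := exists_conIso E
  let h : ∀ m, E.P m ⟶ U := fun m => E.π m 0 ≫ f
  have hh : ∀ m i, E.δ m i ≫ h m = h (m + 1) := fun m i => by
    rw [← Category.assoc, E.δ_π]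
    exact E.w (m + 1) _ _
  have key : ∀ m, ∃ Φ : Amitsur.C R B m ⊗[R] A U ≃+ A (E.P m),
      ∀ x s, Φ (x ⊗ₜ s) = (φ m).hom x • res (h m) s := by
    intro m
    letI : Algebra R Γ((E.P m).left, ⊤) := ((h m).left.appTop).hom.toAlgebra
    haveI : IsAffine (E.P m).left := isAffine_fibPow E m
    let φl : Amitsur.C R B m ≃ₗ[R] Γ((E.P m).left, ⊤) :=
      { (φ m).commRingCatIsoToRingEquiv with
        map_smul' := fun r x => by
          show (φ m).hom (Amitsur.hd R B m r * x) = (h m).left.appTop r * (φ m).hom x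
          rw [map_mul]
          congr 1
          exact ConcreteCategory.congr_hom (hhd m) r }
    let β : Γ((E.P m).left, ⊤) ⊗[R] A U →+ A (E.P m) :=
      TensorProduct.liftAddHom
        { toFun := fun b =>
            { toFun := fun s => b • res (h m) s
              map_zero' := by rw [map_zero, smul_zero]
              map_add' := fun s t => by rw [map_add, smul_add] }
          map_zero' := AddMonoidHom.ext fun s => zero_smul _ _
          map_add' := fun a b => AddMonoidHom.ext fun s => add_smul _ _ _ }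
        (fun r b s => by
          show ((h m).left.appTop r * b) • res (h m) s = b • res (h m) (r • s)
          rw [res_smul, ← mul_smul, mul_comm])
    have hβ : Function.Bijective β := bij (h m) β fun b s => rfl
    exact ⟨(TensorProduct.congr φl (LinearEquiv.refl R (A U))).toAddEquiv.trans (AddEquiv.ofBijective β hβ),
      fun x s => rfl⟩
  choose Φ hΦ using key
  have hstep : ∀ (i : Fin 2) (x : Amitsur.C R B 0 ⊗[R] A U),
      res (E.δ 0 i) (Φ 0 x) = Φ 1 ((Amitsur.δA R B 0 i).toLinearMap.rTensor (A U) x) := by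
    intro i x
    induction x using TensorProduct.induction_on with
    | zero => simp
    | add a b ha hb => simp only [map_add, ha, hb]
    | tmul x s =>
      rw [LinearMap.rTensor_tmul, AlgHom.toLinearMap_apply, hΦ, res_smul, res_comp, hh, hΦ]
      have e1 : (φ 1).hom (Amitsur.δA R B 0 i x) = (E.δ 0 i).left.appTop ((φ 0).hom x) :=
        ConcreteCategory.congr_hom (hδ 0 i) x
      rw [e1]
  obtain ⟨l, hl⟩ := E.exists_lift 0 (fun _ => 𝟙 V) (fun _ _ => rfl)
  have hl0 : l ≫ E.π 0 0 = 𝟙 V := hl 0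
  have hy₀ : res (E.δ 0 0) (res (E.π 0 0) y) = res (E.δ 0 1) (res (E.π 0 0) y) := by
    rw [res_comp, res_comp]
    exact hy _ _ (by rw [Category.assoc, Category.assoc]; exact (hh 0 0).trans (hh 0 1).symm)
  obtain ⟨z, hz⟩ := (Φ 0).surjective (res (E.π 0 0) y)
  rw [← hz, hstep, hstep] at hy₀
  have hz0 : Amitsur.dM R B (A U) 0 z = 0 := by
    have e : ∀ w : Amitsur.C R B 0 ⊗[R] A U, Amitsur.dM R B (A U) 0 w =
        (Amitsur.δA R B 0 0).toLinearMap.rTensor (A U) w - (Amitsur.δA R B 0 1).toLinearMap.rTensor (A U) w := by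
      intro w
      induction w using TensorProduct.induction_on with
      | zero => simp
      | add a b ha hb => simp only [map_add, ha, hb]; abel
      | tmul x s =>
        rw [Amitsur.dM_apply_tmul, Fin.sum_univ_two]
        simp [sub_eq_add_neg, TensorProduct.neg_tmul]
    rw [e, (Φ 1).injective hy₀, sub_self]
  obtain ⟨s, rfl⟩ := Amitsur.exact_dM_zero R B (A U) z hz0
  have hΦ1 : ∀ t : A U, Φ 0 ((1 : Amitsur.C R B 0) ⊗ₜ[R] t) = res (h 0) t := fun t => by
    rw [hΦ, map_one, one_smul]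
  refine ⟨s, ?_, fun t ht => ?_⟩
  · have h1 := congrArg (res l) ((hΦ1 s).symm.trans hz)
    rw [res_comp, res_comp, hl0, res_id, ← Category.assoc, hl0, Category.id_comp] at h1
    exact h1
  · refine Amitsur.injective_one_tmul R B (A U) ((Φ 0).injective ?_)
    show Φ 0 ((1 : Amitsur.C R B 0) ⊗ₜ[R] t) = Φ 0 ((1 : Amitsur.C R B 0) ⊗ₜ[R] s)
    rw [hz, hΦ1, ← res_comp]
    exact congrArg (res (E.π 0 0)) ht

end Affine

end GrothLib.EtQc13
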