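import Groth.Agent.Lib.EtQc13.AssocFun
import Groth.Agent.Lib.EtQc13.AssocComp
import Groth.Agent.Lib.EtQc13.SheafCrit

/-!
# Existence of the étale sheaf associated to a quasi-coherent module
-/

set_option autoImplicit false
set_option backward.isDefEq.respectTransparency false
set_option backward.isDefEq.respectTransparency.types false

universe u

open CategoryTheory CategoryTheory.Limits AlgebraicGeometry Opposite TopologicalSpace
open GrothLib.EtBasicB (objOver homOver)

noncomputable section

namespace GrothLib.EtQc13

variable {S : Scheme.{u}} (F : S.Modules)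

theorem bijective_resP_homOver (U : S.Etale) (W : U.left.Opens)
    (h : (⊤ : (objOver W.ι : S.Etale).left.Opens) ≤ (homOver W.ι : objOver W.ι ⟶ U).left ⁻¹ᵁ W) :
    Function.Bijective (resP F (homOver W.ι : objOver W.ι ⟶ U) h) := by
  have e : (resP F (homOver W.ι : objOver W.ι ⟶ U) h : _ → _) = fun s =>
      (EtAssoc.step2a F (homOver W.ι : objOver W.ι ⟶ U)).app ⊤ (QCoh.pullSec W.ι (mod F U) h s) :=
    funext fun s => resP_apply F _ h s
  rw [e]
  exact (ConcreteCategory.bijective_of_isIso ((EtAssoc.step2a F (homOver W.ι : objOver W.ι ⟶ U)).app ⊤)).comp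
    (bijective_pullSec_ι (mod F U) W h)

/-- The system of inverse images of a module. -/
def zarSystem : ZarSystem S where
  M U := ⟨(mod F U).presheaf, (mod F U).isSheaf⟩
  res g _ _ e := resP F g e
  res_map := resP_map F
  res_res := resP_resP F
  res_id U e s := (resA_eq_resP F (𝟙 U) e s).symm.trans (resA_id F U s)
  bij := bijective_resP_homOver F

set_option maxHeartbeats 1000000 in
/-- The associated étale sheaf exists. -/
theorem exists_isAssoc [F.IsQuasicoherent] : ∃ G : EtCoh.Ab S, EtAssoc.IsAssoc F G := by
  have hs : Presheaf.IsSheaf S.smallEtaleTopology (zarSystem F).pre := by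
    refine Presheaf.isSheaf_of_isSheaf_comp _ _ (forget AddCommGrpCat.{u + 1}) ?_
    rw [isSheaf_iff_isSheaf_of_type]
    refine (EtBasicB.isSheaf_iff S _).2 ⟨(zarSystem F).isSheaf_zar, fun U V _ _ f _ y hy => ?_⟩
    have hres : ∀ {W W' : S.Etale} (g : W' ⟶ W) (s : asc F W),
        resA F g s = (zarSystem F).res g (Q := ⊤) (P := ⊤) (fun _ _ => trivial) s :=
      fun g s => resA_eq_resP F g (fun _ _ => trivial) s
    obtain ⟨s, hs, hu⟩ := existsUnique_descent (A := asc F) (fun {W W'} g => resA F g) (resA_smul F) (resA_comp F)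
      (resA_id F) (fun {Y W} g _ _ => bijective_smul_resA F g) f (y f Presieve.singleton.mk).down (fun a b e =>
        (hres a _).trans ((congrArg ULift.down (hy a b Presieve.singleton.mk Presieve.singleton.mk e)).trans (hres b _).symm))
    refine ⟨ULift.up s, fun W g hg => ?_, fun t ht => ?_⟩
    · cases hg
      exact ULift.ext _ _ ((hres f s).symm.trans hs)
    · exact ULift.ext _ _ (hu t.down ((hres f t.down).trans (congrArg ULift.down (ht f Presieve.singleton.mk))))
  refine ⟨⟨(zarSystem F).pre, hs⟩, fun U => AddEquiv.refl _, fun U U' g s => ?_⟩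
  exact (resA_eq_resP F g (fun _ _ => trivial) s.down).symm

end GrothLib.EtQc13
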